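import Cfsg.Agent.Lib.SmallAbelianDefect.LinearGroup
import Cfsg.Agent.Lib.FreeInertia.Count
import Cfsg.Agent.Lib.Blocks.CentralRank
import Cfsg.Agent.Lib.Clifford.Correspondence
import Cfsg.Agent.Lib.BrauerMap.NormalP
import Cfsg.Agent.Lib.BlockAlg.SmallBlock
import Cfsg.Agent.Lib.KGV.Basic
import Cfsg.Agent.S4607
import Cfsg.Agent.S4733
import Mathlib

/-!
# Blocks with a normal abelian defect group and at most three characters

Such a defect group has at most three elements.  The characters over the canonical character of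
the centralizer are linearly independent on the elements of order prime to `p`, so there are at
most two of them in the inertia group and one in the stabilizer of a nontrivial vector.
-/

set_option autoImplicit false
set_option linter.unusedSectionVars false

namespace Cfsg.Agent.Lib.SmallAbelianDefect

open Cfsg
open Cfsg.Agent.Lib
open Cfsg.Agent.Lib.Clifford (conjFun resFun resTo)
open scoped ComplexConjugate Classical

universe u

/-! ### Transport along isomorphisms -/

theorem crit_map {A B : Type*} [Group A] [Group B] (e : A ≃* B) {q : A} (hq : Crit q) :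
    Crit (e q) := by
  intro t ht s j hs hsq hts
  obtain ⟨y, hy1, hy2⟩ := hq (e.symm t) (by
    have h := ht.map e.symm
    rwa [e.symm_apply_apply] at h) s j hs (by rwa [e.orderOf_eq] at hsq)
    (by rwa [e.symm.orderOf_eq])
  refine ⟨e y, ?_, ?_⟩
  · obtain ⟨k, rfl⟩ := Subgroup.mem_zpowers_iff.1 hy1
    rw [map_zpow]; exact Subgroup.zpow_mem_zpowers _ k
  · obtain ⟨k, hk⟩ := Subgroup.mem_zpowers_iff.1 hy2
    rw [← e.apply_symm_apply t, ← hk, map_zpow]; exact Subgroup.zpow_mem_zpowers _ k

theorem card_overSet_congr {U U' : Type u} [Group U] [Fintype U] [Group U'] [Fintype U']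
    (C : Subgroup U) [C.Normal] (C' : Subgroup U') [C'.Normal] (θ : IrrCharacter C)
    (θ' : IrrCharacter C') (e : U ≃* U') (d : C ≃* C') (hd : ∀ a, ((d a : C') : U') = e a)
    (hθ : ∀ a, (θ : C → ℂ) a = (θ' : C' → ℂ) (d a)) :
    (overSet C θ).card ≤ (overSet C' θ').card := by
  refine Finset.card_le_card_of_injOn (Chars.irrCongr e.symm) (fun χ hχ => ?_)
    (Chars.irrCongr e.symm).injective.injOn
  rw [Finset.mem_coe, mem_overSet] at hχ ⊢
  intro h0
  refine hχ ?_
  rw [← h0, ← Clifford.classInner_comp_equiv d]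
  congr 1
  · funext a
    show (χ : U → ℂ) a = (χ : U → ℂ) (e.symm ((d a : C') : U'))
    rw [hd, e.symm_apply_apply]
  · exact funext hθ

theorem exists_two_squares {α : Type*} (s : Finset α) (hs : s.card ≤ 2) (f : α → ℕ) :
    ∃ a b : ℕ, ∑ x ∈ s, f x ^ 2 = a ^ 2 + b ^ 2 := by
  rcases Nat.lt_or_ge s.card 2 with h | h
  · rcases Nat.lt_or_ge s.card 1 with h' | h'
    · exact ⟨0, 0, by rw [Finset.card_eq_zero.1 (by omega : s.card = 0)]; simp⟩
    · obtain ⟨x, rfl⟩ := Finset.card_eq_one.1 (by omega : s.card = 1)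
      exact ⟨f x, 0, by simp⟩
  · obtain ⟨x, y, hxy, rfl⟩ := Finset.card_eq_two.1 (by omega : s.card = 2)
    exact ⟨f x, f y, Finset.sum_pair hxy⟩

section Pair

variable {G : Type u} [Group G] [Fintype G] {p : ℕ} {M : Ideal AlgInt} [Fact p.Prime] [M.IsPrime]
  {B : Set (IrrCharacter G)}

/-- A centralizer block is induced from itself. -/
theorem isInducedBlockIn_self (K : Subgroup G) {c : Set (IrrCharacter K)} (hc : IsPBlock M c) :
    IsInducedBlockIn M K K c c := by
  refine ⟨hc, hc, fun ξ hξ χ hχ h => ?_⟩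
  have h1 : inducedCentralCharIn K K (ξ : K → ℂ) (h : G) = centralChar (ξ : K → ℂ) h := by
    rw [inducedCentralCharIn, finsum_mem_eq_toFinset_sum,
      Finset.sum_congr rfl (g := fun _ => (ξ : K → ℂ) h / (ξ : K → ℂ) 1), Finset.sum_const,
      nsmul_eq_mul, centralChar, ← Chars.card_conjClass_eq_index, Nat.card_eq_fintype_card,
      Fintype.card_subtype, ← mul_div_assoc]
    · congr 3
      refine congrArg Finset.card ?_
      ext k
      simp only [Set.mem_toFinset, Set.mem_setOf_eq, Finset.mem_filter, Finset.mem_univ, true_and]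
      constructor
      · rintro ⟨x, hx⟩
        exact (isConj_iff.2 ⟨x, Subtype.ext hx⟩).symm
      · intro hk
        obtain ⟨x, hx⟩ := isConj_iff.1 hk.symm
        exact ⟨x, congrArg Subtype.val hx⟩
    · intro k hk
      simp only [Set.mem_toFinset, Set.mem_setOf_eq] at hk
      obtain ⟨x, hx⟩ := hk
      rw [Chars.isClassFunction_apply_eq (Chars.irr_isClassFunction ξ)
        (isConj_iff.2 ⟨x, Subtype.ext hx⟩ : IsConj k h)]
  rw [h1]
  exact Blocks.sameBlock_of_mem hc hξ hχ h

variable (hM : IsPModular p M) {V : Subgroup G}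
  {c : Set (IrrCharacter (Subgroup.centralizer (V : Set G)))}
  (hmax : IsMaximalBrauerPair p M B V c) (hab : ∀ x ∈ V, ∀ y ∈ V, x * y = y * x)

include hM hmax hab

theorem blockDefect_pair : blockDefect p c = (Nat.card V).factorization p := by
  haveI := Fintype.ofFinite (Subgroup.centralizer (V : Set G))
  have hPC := BrauerPairs.le_centralizer_of_comm hab (le_refl V)
  have hD := BrauerPairs.isDefectGroup_of_isMaximal hM
    (a := ⟨_, BrauerPairs.LocalInertial.subBlock hPC le_rfl c⟩)
    (BrauerPairs.LocalInertial.isMaximal_sub hM hPC le_rfl hmax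
      (isInducedBlockIn_self _ hmax.1.1.2))
  have h := Blocks.card_defectGroup hM hmax.1.1.2 hD
  rw [Nat.card_congr (Subgroup.subgroupOfEquivOfLe hPC).toEquiv] at h
  rw [h, (Fact.out : p.Prime).factorization_pow, Finsupp.single_eq_same]

/-- Uniqueness of the character of the pair trivial on the defect group. -/
theorem eq_of_trivial {θ ψ : IrrCharacter (Subgroup.centralizer (V : Set G))} (hθ : θ ∈ c)
    (hker : ∀ z : Subgroup.centralizer (V : Set G), (z : G) ∈ V →
      (θ : Subgroup.centralizer (V : Set G) → ℂ) z = (θ : Subgroup.centralizer (V : Set G) → ℂ) 1)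
    (hψ : ψ ∈ c)
    (hkerψ : ∀ z : Subgroup.centralizer (V : Set G), (z : G) ∈ V →
      (ψ : Subgroup.centralizer (V : Set G) → ℂ) z = (ψ : Subgroup.centralizer (V : Set G) → ℂ) 1) :
    ψ = θ := by
  have hVC : V ≤ (Subgroup.centralizer (V : Set G)) := BrauerPairs.le_centralizer_of_comm hab (le_refl V)
  set Z := V.subgroupOf (Subgroup.centralizer (V : Set G))
  have hZc : Z ≤ Subgroup.center (Subgroup.centralizer (V : Set G)) := fun z hz => Subgroup.mem_center_iff.2 fun g =>
    Subtype.ext ((Subgroup.mem_centralizer_iff.1 g.2 (z : G) hz).symm)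
  have hZp : IsPGroup p Z :=
    (hmax.1.1.1 : IsPGroup p V).of_equiv (Subgroup.subgroupOfEquivOfLe hVC).symm
  haveI : Z.Normal := ⟨fun z hz g => by
    rw [Subgroup.mem_center_iff.1 (hZc hz) g, mul_inv_cancel_right]; exact hz⟩
  have hkerZ : ∀ z ∈ Z, (θ : (Subgroup.centralizer (V : Set G)) → ℂ) z = (θ : (Subgroup.centralizer (V : Set G)) → ℂ) 1 := fun z hz => hker z hz
  have hd := blockDefect_pair hM hmax hab
  have h4 := Blocks.factorization_degree_add_blockDefect hM hmax.1.1.2 hθ
  obtain ⟨φ, hφ⟩ := Chars.exists_irr_quotient Z θ hkerZ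
  have h1 : charDegree (θ : (Subgroup.centralizer (V : Set G)) → ℂ) = charDegree (φ : (Subgroup.centralizer (V : Set G)) ⧸ Z → ℂ) := by
    have := hφ 1
    rw [QuotientGroup.mk_one] at this
    rw [charDegree, charDegree, this]
  have h5 : (Nat.card (Subgroup.centralizer (V : Set G))).factorization p =
      (Nat.card ((Subgroup.centralizer (V : Set G)) ⧸ Z)).factorization p + (Nat.card Z).factorization p := by
    rw [← Finsupp.add_apply, ← Nat.factorization_mul Nat.card_pos.ne' Nat.card_pos.ne',
      ← Subgroup.card_eq_card_quotient_mul_card_subgroup]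
  have h6 : (charDegree (φ : (Subgroup.centralizer (V : Set G)) ⧸ Z → ℂ)).factorization p ≤
      (Nat.card ((Subgroup.centralizer (V : Set G)) ⧸ Z)).factorization p := by
    obtain ⟨-, h0, hdd⟩ := Blocks.exists_degree_eq φ
    exact (Nat.factorization_le_iff_dvd h0 Nat.card_pos.ne').2 hdd p
  have hcZ : Nat.card Z = Nat.card V := Nat.card_congr (Subgroup.subgroupOfEquivOfLe hVC).toEquiv
  refine Blocks.CentralRank.eq_of_kernel hM hZc hZp hmax.1.1.2 hθ hkerZ ?_ ψ hψ
    fun z hz => hkerψ z hz
  rw [hcZ] at h5 ⊢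
  rw [h1] at h4 ⊢
  omega

variable [V.Normal]

/-- The characters over the canonical character are at most as many as the rank. -/
theorem card_overSet_le_blockRank {θ : IrrCharacter (Subgroup.centralizer (V : Set G))}
    (hθ : θ ∈ c)
    (hker : ∀ z : Subgroup.centralizer (V : Set G), (z : G) ∈ V →
      (θ : Subgroup.centralizer (V : Set G) → ℂ) z = (θ : Subgroup.centralizer (V : Set G) → ℂ) 1)
    {T : Subgroup G} (hT : ∀ g, g ∈ T ↔ conjFun g
      (θ : Subgroup.centralizer (V : Set G) → ℂ) = θ)
    (hNT : Subgroup.centralizer (V : Set G) ≤ T) :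
    (overSet ((Subgroup.centralizer (V : Set G)).subgroupOf T)
      (Chars.irrCongr (Subgroup.subgroupOfEquivOfLe hNT) θ)).card ≤ blockRank p B := by
  haveI hCn : (Subgroup.centralizer (V : Set G)).Normal := inferInstance
  have hp : p.Prime := Fact.out
  have hB : IsPBlock M B := hmax.1.2.1
  have hVp : IsPGroup p V := hmax.1.1.1
  have hVC : V ≤ (Subgroup.centralizer (V : Set G)) := BrauerPairs.le_centralizer_of_comm hab (le_refl V)
  -- the characters of `G` over `θ`
  set S : Finset (IrrCharacter G) := overSet (Subgroup.centralizer (V : Set G)) θ with hS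
  have hmem : ∀ χ ∈ S, χ ∈ B := by
    intro χ hχ
    rw [hS, mem_overSet] at hχ
    have h1 := hmax.1.2.2 θ hθ
    have h2 : brauerOmega V (blockCoeff B) (θ : (Subgroup.centralizer (V : Set G)) → ℂ) = if χ ∈ B then 1 else 0 := by
      rw [brauerOmega, finsum_eq_sum_of_fintype,
        ← Blocks.Covering.sum_normal_mul_div_eq (fun g k => Blocks.blockCoeff_conj B g k) χ θ hχ,
        ← Blocks.Covering.sum_eq_sum_normal (N := (Subgroup.centralizer (V : Set G)))
          (f := fun g => blockCoeff B g * (χ : G → ℂ) g / (χ : G → ℂ) 1) (fun g hg => by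
            rw [BrauerMap.blockCoeff_eq_zero_of_notMem_centralizer hM hVp hB hg, zero_mul,
              zero_div])]
      convert Blocks.Covering.sum_blockCoeff_eq_ite B χ
    rw [h2] at h1
    by_contra hno
    rw [if_neg hno, zero_sub] at h1
    exact Blocks.not_memLocalIdeal_one (by simpa using Blocks.memLocalIdeal_neg h1)
  have htriv : ∀ χ ∈ S, ∀ z ∈ V, (χ : G → ℂ) z = (χ : G → ℂ) 1 := by
    intro χ hχ z hz
    rw [hS, mem_overSet] at hχ
    have hres := Clifford.sum_resFun_eq_orbit χ.2 θ.2 hχ
    have h1 := congrFun hres ⟨z, hVC hz⟩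
    have h2 := congrFun hres 1
    simp only [Clifford.resFun_apply, Pi.smul_apply, Finset.sum_apply, smul_eq_mul,
      OneMemClass.coe_one] at h1 h2
    rw [h1, h2]
    congr 1
    refine Finset.sum_congr rfl fun φ hφ => ?_
    obtain ⟨g, rfl⟩ := Clifford.mem_orbitFun.1 hφ
    rw [Clifford.conjFun_apply_one]
    exact hker ⟨g * z * g⁻¹, hCn.conj_mem _ (hVC hz) g⟩ ((‹V.Normal›).conj_mem z hz g)
  have hdef : blockDefect p B = (Nat.card V).factorization p := by
    rw [Blocks.card_defectGroup hM hB (BrauerPairs.isDefectGroup_of_isMaximal hM (a := ⟨V, c⟩) hmax),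
      hp.factorization_pow, Finsupp.single_eq_same]
  have hdeg : ∀ χ ∈ S, (charDegree (χ : G → ℂ)).factorization p +
      (Nat.card V).factorization p = (Nat.card G).factorization p := by
    intro χ hχ
    obtain ⟨d, hd0, hd, hdvd⟩ := KGV.exists_degree_dvd_index V hab χ
    have hcd : charDegree (χ : G → ℂ) = d := by simp [charDegree, hd]
    have h4 := Blocks.factorization_degree_add_blockDefect hM hB (hmem χ hχ)
    have h5 : (Nat.card G).factorization p =
        V.index.factorization p + (Nat.card V).factorization p := by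
      rw [← Finsupp.add_apply, ← Nat.factorization_mul Subgroup.index_ne_zero_of_finite
        Nat.card_pos.ne', V.index_mul_card]
    have h6 : d.factorization p ≤ V.index.factorization p :=
      (Nat.factorization_le_iff_dvd hd0.ne' Subgroup.index_ne_zero_of_finite).2 hdvd p
    rw [hcd] at h4 ⊢
    omega
  have hli : LinearIndependent ℂ fun χ : S =>
      pRegularPart p ((χ : IrrCharacter G) : G → ℂ) := by
    rw [Fintype.linearIndependent_iff]
    intro a ha
    refine Fintype.linearIndependent_iff.1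
      (Chars.irr_linearIndependent.comp (fun χ : S => (χ : IrrCharacter G))
        Subtype.val_injective) a (funext fun x => ?_)
    simp only [Finset.sum_apply, Pi.smul_apply, smul_eq_mul, Pi.zero_apply, Function.comp]
    by_cases hx : x ^ Blocks.pPartExp G p ∈ V
    · obtain ⟨y, hy1, hy2, -, hy4⟩ := (Blocks.isPPart_iff (p := p) (g := x)).2 rfl
      set z := x ^ Blocks.pPartExp G p
      have hval : ∀ χ : S, ((χ : IrrCharacter G) : G → ℂ) x = ((χ : IrrCharacter G) : G → ℂ) y := by
        intro χ
        obtain ⟨φ, hφ⟩ := Chars.exists_irr_quotient V (χ : IrrCharacter G) (htriv _ χ.2)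
        rw [← hφ x, ← hφ y, ← hy1, QuotientGroup.mk_mul, (QuotientGroup.eq_one_iff z).2 hx,
          one_mul]
      have h := congrFun ha y
      simp only [Finset.sum_apply, Pi.smul_apply, smul_eq_mul, Pi.zero_apply,
        BrauerFeit.pRegularPart_apply, if_neg hy4] at h
      simpa only [hval] using h
    · refine Finset.sum_eq_zero fun χ _ => ?_
      rw [Blocks.CentralKernel.apply_eq_zero (htriv _ χ.2) (hdeg _ χ.2) hx, mul_zero]
  have hcard : S.card ≤ blockRank p B := by
    rw [← Fintype.card_coe, ← finrank_span_eq_card hli, blockRank]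
    refine Submodule.finrank_mono (Submodule.span_mono ?_)
    rintro _ ⟨χ, rfl⟩
    exact ⟨_, hmem _ χ.2, rfl⟩
  refine le_trans ?_ hcard
  -- the Clifford correspondence
  set CT := (Subgroup.centralizer (V : Set G)).subgroupOf T
  set θT := Chars.irrCongr (Subgroup.subgroupOfEquivOfLe hNT) θ
  have hto : ∀ ψ : IrrCharacter T,
      classInner (resFun CT (ψ : T → ℂ)) (θT : CT → ℂ) =
        classInner (resTo hNT (ψ : T → ℂ)) (θ : (Subgroup.centralizer (V : Set G)) → ℂ) := fun ψ =>
    Clifford.classInner_comp_equiv (Subgroup.subgroupOfEquivOfLe hNT)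
      (resTo hNT (ψ : T → ℂ)) (θ : (Subgroup.centralizer (V : Set G)) → ℂ)
  have hov : ∀ ψ ∈ overSet CT θT, classInner (resTo hNT (ψ : T → ℂ)) (θ : (Subgroup.centralizer (V : Set G)) → ℂ) ≠ 0 :=
    fun ψ hψ => hto ψ ▸ (mem_overSet CT θT).1 hψ
  have hself : ∀ (ψ : IrrCharacter T) (h : IsIrrCharacter G (indFun T (ψ : T → ℂ))),
      classInner (resFun T (indFun T (ψ : T → ℂ))) (ψ : T → ℂ) ≠ 0 := by
    intro ψ h h0
    have h1 := Chars.classInner_irr_self (⟨_, h⟩ : IrrCharacter G)
    rw [Chars.classInner_indFun_right T _ _ (Chars.isClassFunction_indFun T _)] at h1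
    exact one_ne_zero (h1.symm.trans h0)
  let F : IrrCharacter T → IrrCharacter G := fun ψ =>
    if h : IsIrrCharacter G (indFun T (ψ : T → ℂ)) then ⟨_, h⟩ else Chars.trivialIrr G
  have hF : ∀ ψ ∈ overSet CT θT, ∃ h : IsIrrCharacter G (indFun T (ψ : T → ℂ)),
      F ψ = ⟨_, h⟩ := fun ψ hψ =>
    ⟨_, dif_pos (Clifford.isIrrCharacter_indFun_inertia θ.2 hT hNT ψ.2 (hov ψ hψ))⟩
  refine Finset.card_le_card_of_injOn F (fun ψ hψ => ?_) ?_
  · obtain ⟨h, he⟩ := hF ψ hψ
    rw [Finset.mem_coe, hS, mem_overSet, he]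
    obtain ⟨-, h2, -⟩ := Clifford.clifford_induced θ.2 hT hNT h ψ.2 (hself ψ h) (hov ψ hψ)
    exact h2 ▸ hov ψ hψ
  · intro ψ hψ ψ' hψ' heq
    obtain ⟨h, he⟩ := hF ψ hψ
    obtain ⟨h', he'⟩ := hF ψ' hψ'
    rw [he, he', Subtype.mk_eq_mk] at heq
    obtain ⟨-, -, -, huniq⟩ := Clifford.clifford_induced θ.2 hT hNT h ψ.2 (hself ψ h) (hov ψ hψ)
    exact Subtype.ext (huniq _ ψ'.2 (heq ▸ hself ψ' h') (hov ψ' hψ')).symm

end Pair

open AbelianStar NilBlock in
/-- A normal abelian defect group of a block with at most three characters has at most three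
elements. -/
theorem natCard_le_three_of_normal_abelian {G : Type u} [Group G] [Fintype G] {p : ℕ}
    [Fact p.Prime] {M : Ideal AlgInt} [M.IsPrime] (hM : IsPModular p M)
    {B : Set (IrrCharacter G)} (hB : IsPBlock M B) {V : Subgroup G} [V.Normal]
    (hD : IsDefectGroup p M B V) (hab : ∀ x ∈ V, ∀ y ∈ V, x * y = y * x)
    (hk : Nat.card B ≤ 3) : Nat.card V ≤ 3 := by
  have hp : p.Prime := Fact.out
  by_contra hV
  push Not at hV
  -- the block has three characters and rank two
  obtain ⟨hlk, hd0, hdk⟩ := S4733.result p M hM B hB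
  have hcardV := Blocks.card_defectGroup hM hB hD
  have hl2 : blockRank p B = 2 ∧ Nat.card B = 3 := by
    have hl0 := KleinBlock.blockRank_pos hp hB
    have hne : blockDefect p B ≠ 0 := fun h => by rw [hcardV, h, pow_zero] at hV; omega
    have h1 : blockRank p B ≠ 1 := fun h => by
      have := BlockAlg.card_defect_eq hB hM hD h (by omega)
      omega
    have h2 : blockRank p B ≠ Nat.card B := fun h => hne (hdk.2 h.symm)
    omega
  obtain ⟨c, hmax⟩ := NilBlock.exists_maximal hM hB hD
  haveI hCn : (Subgroup.centralizer (V : Set G)).Normal := inferInstance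
  have hVC : V ≤ (Subgroup.centralizer (V : Set G)) := BrauerPairs.le_centralizer_of_comm hab (le_refl V)
  set b : BrauerPairIdx G := ⟨V, c⟩ with hb
  have hmax' : IsMaximalBrauerPair p M B b.1 b.2 := hmax
  have hab' : ∀ x ∈ b.1, ∀ y ∈ b.1, x * y = y * x := hab
  -- the inertial group is transitive and the subsections have rank one
  have hblk : ∀ w : b.1, IsPBlock M (bu p M b (w : G)).2 := fun w =>
    (NilBlock.isBrauerPairOf_bu hM hmax' w.2).1.2
  have hcount := FreeInertia.card_eq_sum hM hmax' hab'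
  rw [← Finset.add_sum_erase _ _ (Finset.mem_univ (1 : b.1)), card_orb_one hmax', Nat.cast_one,
    inv_one, one_mul, show blockRank p (bu p M b ((1 : b.1) : G)).2 = blockRank p B from
      blockRank_bu_of_mem_center hM hmax' b.1.one_mem (Subgroup.one_mem _), hl2.1,
    ← Nat.card_eq_card_toFinset, hl2.2] at hcount
  have hsum : ∑ w ∈ Finset.univ.erase (1 : b.1),
      ((orb b w).card : ℚ)⁻¹ * (blockRank p (bu p M b (w : G)).2 : ℚ) = 1 := by
    have h : ((∑ w ∈ Finset.univ.erase (1 : b.1),
        ((orb b w).card : ℚ)⁻¹ * (blockRank p (bu p M b (w : G)).2 : ℚ) : ℚ) : ℂ) = ((1 : ℚ) : ℂ) := by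
      push_cast at hcount ⊢
      linear_combination -hcount
    exact_mod_cast h
  set N := (Finset.univ.erase (1 : b.1)).card with hN
  have hsub : ∀ w ∈ Finset.univ.erase (1 : b.1), orb b w ⊆ Finset.univ.erase (1 : b.1) := by
    intro w hw v hv
    refine Finset.mem_erase.2 ⟨fun h => (Finset.mem_erase.1 hw).1 ?_, Finset.mem_univ v⟩
    obtain ⟨y, -, hy⟩ := mem_orb.1 hv
    rw [h, Subgroup.coe_one, mul_inv_eq_one] at hy
    exact Subtype.ext (mul_eq_left.1 hy)
  have hN0 : 0 < N := by
    rw [hN, Finset.card_erase_of_mem (Finset.mem_univ _), Finset.card_univ,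
      ← Nat.card_eq_fintype_card]
    have : Nat.card b.1 = Nat.card V := rfl
    omega
  have hall : ∀ w ∈ Finset.univ.erase (1 : b.1),
      orb b w = Finset.univ.erase (1 : b.1) ∧ blockRank p (bu p M b (w : G)).2 = 1 := by
    have hle : ∀ w ∈ Finset.univ.erase (1 : b.1),
        ((N : ℚ))⁻¹ ≤ ((orb b w).card : ℚ)⁻¹ * (blockRank p (bu p M b (w : G)).2 : ℚ) := by
      intro w hw
      calc ((N : ℚ))⁻¹ ≤ ((orb b w).card : ℚ)⁻¹ :=
            inv_anti₀ (Nat.cast_pos.2 (orb_card_pos hmax' w))
              (Nat.cast_le.2 (Finset.card_le_card (hsub w hw)))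
        _ = ((orb b w).card : ℚ)⁻¹ * 1 := (mul_one _).symm
        _ ≤ _ := mul_le_mul_of_nonneg_left (by exact_mod_cast KleinBlock.blockRank_pos hp (hblk w))
              (by positivity)
    have heq := (Finset.sum_eq_sum_iff_of_le hle).1 (by
      rw [hsum, Finset.sum_const, ← hN, nsmul_eq_mul,
        mul_inv_cancel₀ (Nat.cast_ne_zero.2 hN0.ne')])
    intro w hw
    have h := heq w hw
    have hc := orb_card_pos hmax' w
    have hr := KleinBlock.blockRank_pos hp (hblk w)
    have hcN := Finset.card_le_card (hsub w hw)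
    field_simp at h
    have h' : (orb b w).card = N * blockRank p (bu p M b (w : G)).2 := by exact_mod_cast (by linarith [h] : ((orb b w).card : ℚ) = (N : ℚ) * (blockRank p (bu p M b (w : G)).2 : ℚ))
    have hr1 : blockRank p (bu p M b (w : G)).2 = 1 := by
      by_contra hr1
      have : N * 2 ≤ N * blockRank p (bu p M b (w : G)).2 := Nat.mul_le_mul_left N (by omega)
      omega
    exact ⟨Finset.eq_of_subset_of_card_le (hsub w hw) (by rw [h', hr1, mul_one]), hr1⟩
  -- `V` is elementary abelian
  have hexp : ∀ v : V, v ^ p = 1 := by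
    have hdvd : p ∣ Nat.card V := by
      rw [hcardV]
      exact dvd_pow_self p fun h => by rw [hcardV, h, pow_zero] at hV; omega
    obtain ⟨w, hw⟩ := exists_prime_orderOf_dvd_card' (G := V) p hdvd
    have hw1 : w ≠ 1 := fun h => by rw [h, orderOf_one] at hw; exact hp.ne_one hw.symm
    intro v
    by_cases hv : v = 1
    · rw [hv, one_pow]
    have hvo : (v : b.1) ∈ orb b (w : b.1) := by
      rw [(hall w (Finset.mem_erase.2 ⟨hw1, Finset.mem_univ _⟩)).1]
      exact Finset.mem_erase.2 ⟨hv, Finset.mem_univ _⟩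
    obtain ⟨y, -, hy⟩ := mem_orb.1 hvo
    refine Subtype.ext ?_
    have h1 : (w : G) ^ p = 1 := by
      rw [← Subgroup.coe_pow, ← hw, pow_orderOf_eq_one, Subgroup.coe_one]
    rw [Subgroup.coe_pow, Subgroup.coe_one, ← hy, conj_pow, h1, mul_one, mul_inv_cancel]
  -- the canonical character
  set T := BrauerPairs.pairStab (a := b) hmax'.1.1.2 with hTdef
  have hZc : V.subgroupOf (Subgroup.centralizer (V : Set G)) ≤ Subgroup.center (Subgroup.centralizer (V : Set G)) := fun z hz => Subgroup.mem_center_iff.2 fun g =>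
    Subtype.ext ((Subgroup.mem_centralizer_iff.1 g.2 (z : G) hz).symm)
  obtain ⟨θ, hθ, hker'⟩ := Blocks.CentralKernel.exists_mem_kernel hM hZc
    ((hmax.1.1.1 : IsPGroup p V).of_equiv (Subgroup.subgroupOfEquivOfLe hVC).symm) hmax.1.1.2
  have hker : ∀ z : (Subgroup.centralizer (V : Set G)), (z : G) ∈ V → (θ : (Subgroup.centralizer (V : Set G)) → ℂ) z = (θ : (Subgroup.centralizer (V : Set G)) → ℂ) 1 := fun z hz => hker' z hz
  have hT : ∀ g, g ∈ T ↔ conjFun g (θ : (Subgroup.centralizer (V : Set G)) → ℂ) = θ := by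
    intro g
    rw [hTdef, BrauerPairs.mem_pairStab_iff_stabilizesBlock]
    constructor
    · rintro ⟨-, -, hst⟩
      obtain ⟨θ', hθ', hconj⟩ := hst θ hθ
      have hval : ∀ k : (Subgroup.centralizer (V : Set G)), (θ' : (Subgroup.centralizer (V : Set G)) → ℂ) ⟨g * k * g⁻¹, hCn.conj_mem _ k.2 g⟩ = (θ : (Subgroup.centralizer (V : Set G)) → ℂ) k :=
        fun k => hconj k _ rfl
      have hk' : ∀ z : (Subgroup.centralizer (V : Set G)), (z : G) ∈ V → (θ' : (Subgroup.centralizer (V : Set G)) → ℂ) z = (θ' : (Subgroup.centralizer (V : Set G)) → ℂ) 1 := by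
        intro z hz
        have h1 := hconj ⟨g⁻¹ * z * g, by simpa using hCn.conj_mem _ z.2 g⁻¹⟩ z (by
          show (z : G) = g * (g⁻¹ * z * g) * g⁻¹
          group)
        have h2 := hconj 1 1 (by simp)
        rw [h1, h2]
        exact hker _ (by simpa using (‹V.Normal›).conj_mem _ hz g⁻¹)
      have he : θ' = θ := eq_of_trivial hM hmax hab hθ hker hθ' hk'
      funext k
      conv_rhs => rw [← hval k, he]
      rfl
    · intro hg
      refine ⟨by rw [Subgroup.normalizer_eq_top]; trivial,
        by rw [Subgroup.normalizer_eq_top]; trivial, fun χ hχ => ?_⟩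
      have hg' : conjFun g⁻¹ (θ : (Subgroup.centralizer (V : Set G)) → ℂ) = θ := by
        conv_lhs => rw [← hg]
        rw [← Clifford.conjFun_mul, mul_inv_cancel, Clifford.conjFun_one]
      refine ⟨⟨conjFun g⁻¹ (χ : (Subgroup.centralizer (V : Set G)) → ℂ), Clifford.isIrrCharacter_conjFun _ χ.2⟩, ?_,
        fun k k' hk => ?_⟩
      · have h := Blocks.Covering.sameBlock_conjFun g⁻¹
          (Blocks.sameBlock_of_mem hmax.1.1.2 hθ hχ)
        rw [hg'] at h
        obtain ⟨θ₀, hc⟩ := hmax.1.1.2
        show _ ∈ c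
        rw [hc, Blocks.mem_blockOf]
        exact Blocks.sameBlock_trans (Blocks.mem_blockOf.1 (hc ▸ hθ)) h
      · show (χ : (Subgroup.centralizer (V : Set G)) → ℂ) _ = (χ : (Subgroup.centralizer (V : Set G)) → ℂ) k
        refine congrArg (χ : (Subgroup.centralizer (V : Set G)) → ℂ) (Subtype.ext ?_)
        show g⁻¹ * (k' : G) * g⁻¹⁻¹ = k
        rw [hk]
        group
  have hCT : (Subgroup.centralizer (V : Set G)) ≤ T := fun x hx => BrauerPairs.core_le_pairStab (a := b) hmax'.1.1.2 (le_sup_right (a := V) hx)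
  set CT := (Subgroup.centralizer (V : Set G)).subgroupOf T
  set θT := Chars.irrCongr (Subgroup.subgroupOfEquivOfLe hCT) θ
  have hinvT : ∀ t : T, conjFun t (θT : CT → ℂ) = θT := fun t => funext fun a =>
    congrFun ((hT t).1 t.2) (Subgroup.subgroupOfEquivOfLe hCT a)
  have h2over : (overSet CT θT).card ≤ 2 :=
    hl2.1 ▸ card_overSet_le_blockRank hM hmax hab hθ hker hT hCT
  -- the linear group
  letI : CommGroup V :=
    { (inferInstance : Group V) with mul_comm := fun x y => Subtype.ext (hab _ x.2 _ y.2) }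
  letI : Module (ZMod p) (Additive V) := AddCommGroup.zmodModule (n := p) (G := Additive V)
    (fun x : Additive V => show p • x = 0 from hexp x.toMul)
  let f : T →* Module.End (ZMod p) (Additive V) :=
    { toFun := fun t =>
        (MonoidHom.toAdditive
          (MulAut.conjNormal (t : G) : MulAut V).toMonoidHom).toZModLinearMap p
      map_one' := LinearMap.ext fun v => Additive.toMul.injective <| Subtype.ext (by
        show ((MulAut.conjNormal ((1 : T) : G) v.toMul : V) : G) = (v.toMul : G)
        simp)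
      map_mul' := fun a c => LinearMap.ext fun v => Additive.toMul.injective <| by
        show MulAut.conjNormal ((a * c : T) : G) v.toMul =
          MulAut.conjNormal (a : G) (MulAut.conjNormal (c : G) v.toMul)
        rw [Subgroup.coe_mul, map_mul, MulAut.mul_apply] }
  have hfC : CT ≤ f.ker := fun t ht => LinearMap.ext fun v => Additive.toMul.injective <| Subtype.ext (by
    show ((MulAut.conjNormal (t : G) v.toMul : V) : G) = (v.toMul : G)
    have h : (v.toMul : G) * (t : G) = (t : G) * (v.toMul : G) :=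
      Subgroup.mem_centralizer_iff.1 ht _ v.toMul.2
    rw [MulAut.conjNormal_apply, ← h, mul_inv_cancel_right])
  let ρ : Representation (ZMod p) (T ⧸ CT) (Additive V) := QuotientGroup.lift CT f hfC
  have hρ : ∀ (t : T) (v : Additive V),
      (((ρ (t : T ⧸ CT)) v).toMul : G) = (t : G) * (v.toMul : G) * (t : G)⁻¹ := fun t v =>
    MulAut.conjNormal_apply _ _
  have hinj : Function.Injective ρ := by
    refine (injective_iff_map_eq_one ρ).2 fun q hq => ?_
    obtain ⟨t, rfl⟩ := QuotientGroup.mk_surjective q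
    rw [QuotientGroup.eq_one_iff, Subgroup.mem_subgroupOf]
    refine Subgroup.mem_centralizer_iff.2 fun x hx => ?_
    have h := hρ t (Additive.ofMul ⟨x, hx⟩)
    rw [hq] at h
    exact ((mul_inv_eq_iff_eq_mul.1 h.symm)).symm
  have hpE : ¬ p ∣ Nat.card (T ⧸ CT) := by
    let g : T →* MulAut b.1 := (MulAut.conjNormal : G →* MulAut V).comp T.subtype
    have hg : ∀ t, g t ∈ autInducedBy T b.1 := fun t =>
      Fusion.mem_autInducedBy.2 ⟨t, t.2, fun x => MulAut.conjNormal_apply _ _⟩
    have hgk : g.ker = CT := by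
      ext t
      rw [MonoidHom.mem_ker, Subgroup.mem_subgroupOf]
      constructor
      · intro h
        refine Subgroup.mem_centralizer_iff.2 fun x hx => ?_
        have h' := congrArg (fun α : MulAut b.1 => ((α ⟨x, hx⟩ : b.1) : G)) h
        simp only [g, MonoidHom.comp_apply, MulAut.one_apply] at h'
        rw [MulAut.conjNormal_apply] at h'
        exact (mul_inv_eq_iff_eq_mul.1 h').symm
      · intro h
        refine MulEquiv.ext fun x => Subtype.ext ?_
        show ((MulAut.conjNormal (t : G) x : V) : G) = (x : G)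
        have h' : (x : G) * (t : G) = (t : G) * (x : G) :=
          Subgroup.mem_centralizer_iff.1 h _ x.2
        rw [MulAut.conjNormal_apply, ← h', mul_inv_cancel_right]
    intro hdvd
    refine not_dvd_card_aut hM hmax' hab' (hdvd.trans ?_)
    rw [← hgk, Nat.card_congr (QuotientGroup.quotientKerEquivRange g).toEquiv]
    exact Subgroup.card_dvd_of_le fun _ ⟨t, ht⟩ => ht ▸ hg t
  have htr : ∀ v w : Additive V, v ≠ 0 → w ≠ 0 → ∃ a, ρ a v = w := by
    intro v w hv hw
    have h := (hall v.toMul (Finset.mem_erase.2 ⟨hv, Finset.mem_univ _⟩)).1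
    have hmem : (w.toMul : b.1) ∈ orb b v.toMul := by
      rw [h]; exact Finset.mem_erase.2 ⟨hw, Finset.mem_univ _⟩
    obtain ⟨y, hy, hyv⟩ := mem_orb.1 hmem
    exact ⟨((⟨y, (inStab_iff (b := b) hmax'.1.1.2).1 hy⟩ : T) : T ⧸ CT),
      Additive.toMul.injective (Subtype.ext ((hρ _ v).trans hyv))⟩
  have hreg : ∀ a c : T ⧸ CT, Crit a → Crit c → a ≠ 1 → c ≠ 1 → IsConj a c :=
    fun a c ha hc ha1 hc1 => isConj_of_card_overSet_le_two CT θT hinvT h2over ha hc ha1 hc1
  -- the stabilizer of a vector
  have key : ∀ v : Additive V, v ≠ 0 →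
      (∀ q : fixer ρ v, Crit q → q = 1) ∧ IsSquare (Nat.card (fixer ρ v)) ∧
        ∃ a d : ℕ, Nat.card (Additive V) - 1 = a ^ 2 + d ^ 2 := by
    intro v hv
    set w : G := (v.toMul : G) with hw
    have hwV : w ∈ b.1 := v.toMul.2
    set H := Subgroup.centralizer ((bu p M b w).1 : Set G) with hH
    have hHmem : ∀ x : G, x ∈ H ↔ x * w * x⁻¹ = w := fun x => by
      rw [hH, NilBlock.centralizer_bu, Subgroup.mem_centralizer_singleton_iff,
        mul_inv_eq_iff_eq_mul]
    have hQ : (bu p M b w).1 ≤ V := by rw [NilBlock.bu_fst]; exact Subgroup.zpowers_le.2 hwV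
    have hPC := BrauerPairs.le_centralizer_of_comm hab hQ
    have hmaxH := BrauerPairs.LocalInertial.isMaximal_sub hM hPC hQ hmax
      (isInducedBlockIn_bu hM hmax' hab' hwV)
    have habH : ∀ x ∈ V.subgroupOf H, ∀ y ∈ V.subgroupOf H, x * y = y * x := fun x hx y hy =>
      Subtype.ext (hab _ hx _ hy)
    haveI : (V.subgroupOf H).Normal := inferInstance
    set CH := Subgroup.centralizer ((V.subgroupOf H : Subgroup H) : Set H) with hCH
    set sE := BrauerPairs.LocalInertial.sub hPC hQ with hsE
    set θH : IrrCharacter CH := Chars.irrCongr sE.symm θ with hθH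
    have hθHc : θH ∈ BrauerPairs.LocalInertial.subBlock hPC hQ c := ⟨θ, hθ, rfl⟩
    have hsymm : ∀ z : CH, ((sE.symm z : (Subgroup.centralizer (V : Set G))) : G) = ((z : H) : G) := fun z => rfl
    have hkerH : ∀ z : CH, (z : H) ∈ V.subgroupOf H →
        (θH : CH → ℂ) z = (θH : CH → ℂ) 1 := fun z hz => by
      show (θ : (Subgroup.centralizer (V : Set G)) → ℂ) (sE.symm z) = (θ : (Subgroup.centralizer (V : Set G)) → ℂ) (sE.symm 1)
      rw [map_one]
      exact hker _ hz
    haveI hCHn : CH.Normal := by rw [hCH]; infer_instance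
    have hTH : ∀ h : H, h ∈ T.subgroupOf H ↔ conjFun h (θH : CH → ℂ) = θH := by
      intro h
      rw [Subgroup.mem_subgroupOf, hT]
      constructor
      · exact fun e => funext fun k => congrFun e (sE.symm k)
      · intro e
        funext k
        have := congrFun e (sE k)
        simp only [hθH] at this
        show (θ : (Subgroup.centralizer (V : Set G)) → ℂ) _ = _
        refine Eq.trans ?_ (this.trans (congrArg (θ : (Subgroup.centralizer (V : Set G)) → ℂ) (sE.symm_apply_apply k)))
        exact congrArg (θ : (Subgroup.centralizer (V : Set G)) → ℂ) (Subtype.ext rfl)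
    have hCHT : CH ≤ T.subgroupOf H := fun h hh => hCT (sE.symm ⟨h, hh⟩).2
    have hle1 := card_overSet_le_blockRank hM hmaxH habH hθHc hkerH hTH hCHT
    have hr1 : blockRank p (bu p M b w).2 = 1 :=
      (hall v.toMul (Finset.mem_erase.2 ⟨hv, Finset.mem_univ _⟩)).2
    rw [hr1] at hle1
    -- inside the inertia group
    set U := H.subgroupOf T with hU
    set CU := CT.subgroupOf U with hCU
    have hCHmem : ∀ x : G, x ∈ (Subgroup.centralizer (V : Set G)) → x ∈ H := fun x hx =>
      Subgroup.centralizer_le hQ hx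
    have hCTU : CT ≤ U := fun t ht => hCHmem _ ht
    set θU := Chars.irrCongr (Subgroup.subgroupOfEquivOfLe hCTU) θT
    have hinvU : ∀ u : U, conjFun u (θU : CU → ℂ) = θU := fun u => funext fun a =>
      congrFun (hinvT (u : T)) (Subgroup.subgroupOfEquivOfLe hCTU a)
    let e : U ≃* (T.subgroupOf H) :=
      { toFun := fun u => ⟨⟨((u : T) : G), u.2⟩, (u : T).2⟩
        invFun := fun h => ⟨⟨((h : H) : G), h.2⟩, (h : H).2⟩
        left_inv := fun u => rfl
        right_inv := fun h => rfl
        map_mul' := fun _ _ => rfl }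
    let d : CU ≃* CH.subgroupOf (T.subgroupOf H) :=
      { toFun := fun a => ⟨e (a : U), (sE ⟨(((a : U) : T) : G), a.2⟩).2⟩
        invFun := fun a => ⟨e.symm (a : T.subgroupOf H),
          (sE.symm ⟨((a : T.subgroupOf H) : H), a.2⟩).2⟩
        left_inv := fun a => rfl
        right_inv := fun a => rfl
        map_mul' := fun _ _ => rfl }
    have hle : (overSet CU θU).card ≤ 1 :=
      (card_overSet_congr CU _ θU _ e d (fun a => rfl) fun a => rfl).trans hle1
    obtain ⟨η, hη⟩ := overSet_nonempty CU θU hinvU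
    have hsingle : ∀ ψ ∈ overSet CU θU, ψ = η := fun ψ hψ =>
      Finset.card_le_one.1 hle ψ hψ η hη
    obtain ⟨eU, heU, hsU⟩ := exists_ramification CU θU hinvU
    obtain ⟨eT, heT, hsT⟩ := exists_ramification CT θT hinvT
    rw [Finset.sum_eq_single η (fun ψ hψ hne => absurd (hsingle ψ hψ) hne)
      (fun h => absurd hη h)] at hsU
    -- the stabilizer as a quotient
    have hfix : ∀ t : T, (t : T ⧸ CT) ∈ fixer ρ v ↔ t ∈ U := fun t => by
      rw [mem_fixer, hU, Subgroup.mem_subgroupOf, hHmem]
      constructor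
      · intro h
        rw [hw, ← hρ t v, h]
      · intro h
        exact Additive.toMul.injective (Subtype.ext ((hρ t v).trans h))
    let π : U →* fixer ρ v :=
      { toFun := fun u => ⟨((u : T) : T ⧸ CT), (hfix _).2 u.2⟩
        map_one' := rfl
        map_mul' := fun _ _ => rfl }
    have hπs : Function.Surjective π := by
      rintro ⟨q, hq⟩
      obtain ⟨t, rfl⟩ := QuotientGroup.mk_surjective q
      exact ⟨⟨t, (hfix t).1 hq⟩, rfl⟩
    have hπk : CU = π.ker := by
      ext u
      rw [MonoidHom.mem_ker, Subgroup.mem_subgroupOf, ← QuotientGroup.eq_one_iff]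
      exact ⟨fun h => Subtype.ext h, fun h => congrArg Subtype.val h⟩
    let iso : U ⧸ CU ≃* fixer ρ v := (QuotientGroup.quotientMulEquivOfEq hπk).trans
      (QuotientGroup.quotientKerEquivOfSurjective π hπs)
    have hcardfix : Nat.card (fixer ρ v) = eU η ^ 2 := by
      rw [hsU]; exact (Nat.card_congr iso.toEquiv).symm
    refine ⟨fun q hq => ?_, ⟨eU η, hcardfix.trans (sq _)⟩, ?_⟩
    · by_contra hq1
      have := two_le_card_overSet CU θU hinvU (crit_map iso.symm hq)
        fun h => hq1 (iso.symm.map_eq_one_iff.1 h)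
      omega
    · -- each ramification in `T` is a multiple of the one in `U`
      have hdiv : ∀ φ : IrrCharacter T, eU η ∣ eT φ := by
        intro φ
        obtain ⟨m, hm⟩ := Chars.isCharacter_exists_nat_decomp
          (Chars.isCharacter_restrict (H := U) (Chars.irr_isCharacter φ))
        have h1 : classInner (resFun CT (φ : T → ℂ)) (θT : CT → ℂ) =
            classInner (resFun CU (fun u : U => (φ : T → ℂ) u)) (θU : CU → ℂ) :=
          (Clifford.classInner_comp_equiv (Subgroup.subgroupOfEquivOfLe hCTU)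
            (resFun CT (φ : T → ℂ)) (θT : CT → ℂ)).symm
        have h2 : resFun CU (fun u : U => (φ : T → ℂ) u) =
            ∑ ψ : IrrCharacter U, (m ψ : ℂ) • resFun CU (ψ : U → ℂ) := by
          rw [hm]
          funext a
          simp [Clifford.resFun_apply]
        rw [h2, Chars.classInner_sum_left] at h1
        simp only [Chars.classInner_smul_left, heU, heT] at h1
        have h3 : eT φ = ∑ ψ : IrrCharacter U, m ψ * eU ψ := by exact_mod_cast h1
        rw [h3]
        refine Finset.dvd_sum fun ψ _ => ?_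
        by_cases hψ : ψ ∈ overSet CU θU
        · rw [hsingle ψ hψ]; exact dvd_mul_left _ _
        · have h0 : eU ψ = 0 := by
            have h4 := not_not.1 (fun h => hψ ((mem_overSet CU θU).2 h))
            rw [heU] at h4
            exact_mod_cast h4
          rw [h0, mul_zero]; exact dvd_zero _
      choose m hm using hdiv
      obtain ⟨a, d', had⟩ := exists_two_squares (overSet CT θT) h2over m
      refine ⟨a, d', ?_⟩
      have hi := (fixer ρ v).index_mul_card
      rw [index_fixer ρ htr hv, hcardfix,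
        show Nat.card (T ⧸ CT) = eU η ^ 2 * ∑ φ ∈ overSet CT θT, m φ ^ 2 by
          rw [show Nat.card (T ⧸ CT) = CT.index from rfl, ← hsT, Finset.mul_sum]
          exact Finset.sum_congr rfl fun φ _ => by rw [hm, mul_pow],
        had, mul_comm (eU η ^ 2)] at hi
      refine Nat.eq_of_mul_eq_mul_right ?_ hi
      rw [← hcardfix]
      exact Nat.card_pos
  haveI : Nontrivial (Additive V) := Finite.one_lt_card_iff_nontrivial.1
    (show 1 < Nat.card V by omega)
  obtain ⟨v, hv⟩ := exists_ne (0 : Additive V)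
  have h := natCard_le_three ρ hinj hpE htr hreg (fun v hv => (key v hv).1)
    (fun v hv => (key v hv).2.1) (key v hv).2.2
  exact absurd h (not_le.2 hV)

end Cfsg.Agent.Lib.SmallAbelianDefect
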