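import Cfsg.Agent.Lib.SmallAbelianDefect.Regular
import Cfsg.Agent.Lib.PPD.Zsigmondy
import Mathlib

/-!
# Coprime linear groups with few classes of regular elements

A group of order prime to `p` acting faithfully and transitively on the nonzero vectors of an
elementary abelian `p`-group, with at most one nontrivial class of elements satisfying `Crit` and
no such element in a vector stabilizer, acts on at most three vectors, granted two arithmetical
conditions.
-/

set_option autoImplicit false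

namespace Cfsg.Agent.Lib.SmallAbelianDefect

open Cfsg.Agent.Lib
open scoped Classical

/-! ### Elementary group theory -/

theorem mem_zpowers_mul_of_coprime {E : Type*} [Group E] {a b : E} (h : Commute a b)
    (hc : Nat.Coprime (orderOf a) (orderOf b)) : a ∈ Subgroup.zpowers (a * b) := by
  obtain ⟨m, hm⟩ := exists_pow_eq_self_of_coprime (x := a) (n := orderOf b) hc.symm
  have h1 : (a * b) ^ orderOf b = a ^ orderOf b := by
    rw [h.mul_pow, pow_orderOf_eq_one, mul_one]
  refine Subgroup.mem_zpowers_iff.2 ⟨((orderOf b * m : ℕ) : ℤ), ?_⟩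
  rw [zpow_natCast, pow_mul, h1, hm]

theorem mem_zpowers_trans {E : Type*} [Group E] {a b c : E} (h1 : a ∈ Subgroup.zpowers b)
    (h2 : b ∈ Subgroup.zpowers c) : a ∈ Subgroup.zpowers c :=
  Subgroup.zpowers_le.2 h2 h1

theorem commute_of_mem_zpowers {E : Type*} [Group E] {a b t : E} (h : a ∈ Subgroup.zpowers b)
    (ht : Commute t b) : Commute t a := by
  obtain ⟨k, rfl⟩ := Subgroup.mem_zpowers_iff.1 h
  exact ht.zpow_right k

theorem crit_of_isCyclic {E : Type*} [Group E] [IsCyclic E] (q : E) : Crit q := by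
  obtain ⟨g, hg⟩ := IsCyclic.exists_generator (α := E)
  exact fun t _ _ _ _ _ _ => ⟨g, hg q, hg t⟩

/-- The number of points and of fixed points of a map of prime order agree modulo the order. -/
theorem card_modEq_fixed {α : Type*} [Finite α] {r : ℕ} [Fact r.Prime] (f : α → α)
    (hf : ∀ a, f^[r] a = a) : Nat.card α ≡ Nat.card {a // f a = a} [MOD r] := by
  cases nonempty_fintype α
  let F : Function.End α := f
  have h1 : ∀ k : ℕ, F ^ k = f^[k] := by
    intro k
    induction k with
    | zero => rfl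
    | succ k ih => rw [pow_succ, ih, Function.iterate_succ]; rfl
  have h := Equiv.Perm.card_fixedPoints_modEq (f := F) (p := r) (n := 1)
    (by rw [pow_one, h1]; exact funext hf)
  rw [← Nat.card_eq_fintype_card, ← Nat.card_eq_fintype_card] at h
  exact h

section

variable {p : ℕ} [Fact p.Prime] {E V : Type*} [Group E] [AddCommGroup V] [Module (ZMod p) V]
  (ρ : Representation (ZMod p) E V)

/-- The stabilizer of a vector. -/
def fixer (v : V) : Subgroup E where
  carrier := {a | ρ a v = v}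
  mul_mem' := fun {a b} (ha : ρ a v = v) (hb : ρ b v = v) => by
    show ρ (a * b) v = v
    rw [map_mul, Module.End.mul_apply, hb, ha]
  one_mem' := by
    show ρ 1 v = v
    rw [map_one, Module.End.one_apply]
  inv_mem' := fun {a} (ha : ρ a v = v) => by
    show ρ a⁻¹ v = v
    conv_lhs => rw [← ha]
    rw [← Module.End.mul_apply, ← map_mul, inv_mul_cancel, map_one, Module.End.one_apply]

theorem mem_fixer {v : V} {a : E} : a ∈ fixer ρ v ↔ ρ a v = v := Iff.rfl

/-- Nontrivial elements of `K` fix only zero. -/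
def Semireg (K : Subgroup E) : Prop := ∀ a ∈ K, a ≠ 1 → ∀ v, ρ a v = v → v = 0

theorem sum_pow_apply_eq_zero {K : Subgroup E} (hK : Semireg ρ K) {c : E} {s : ℕ} (hc : c ∈ K)
    (hc1 : c ≠ 1) (hcs : c ^ s = 1) (v : V) : ∑ k ∈ Finset.range s, ρ (c ^ k) v = 0 := by
  refine hK c hc hc1 _ ?_
  rw [map_sum, Finset.sum_congr rfl fun k _ => (show ρ c (ρ (c ^ k) v) = ρ (c ^ (k + 1)) v by
    rw [pow_succ', map_mul, Module.End.mul_apply])]
  have h := Finset.sum_range_succ' (fun k => ρ (c ^ k) v) s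
  rw [Finset.sum_range_succ, hcs, pow_zero] at h
  exact (add_right_cancel h).symm

theorem mem_zpowers_of_prime_order [Nontrivial V] {K : Subgroup E} (hK : Semireg ρ K) {a b : E}
    (ha : a ∈ K) (hb : b ∈ K) (hab : Commute a b) {s : ℕ} (hs : s.Prime) (hsp : s ≠ p)
    (has : orderOf a = s) (hbs : b ^ s = 1) : b ∈ Subgroup.zpowers a := by
  by_contra hba
  obtain ⟨v, hv⟩ := exists_ne (0 : V)
  have hne : ∀ i : ℕ, b * a ^ i ≠ 1 := fun i h => hba (by
    rw [eq_inv_of_mul_eq_one_left h]
    exact inv_mem (Subgroup.npow_mem_zpowers a i))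
  have hcs : ∀ i : ℕ, (b * a ^ i) ^ s = 1 := fun i => by
    rw [(hab.symm.pow_right i).mul_pow, hbs, one_mul, ← pow_mul, mul_comm, pow_mul, ← has,
      pow_orderOf_eq_one, one_pow]
  have h1 : ∑ i ∈ Finset.range s, ∑ k ∈ Finset.range s, ρ ((b * a ^ i) ^ k) v = 0 :=
    Finset.sum_eq_zero fun i _ =>
      sum_pow_apply_eq_zero ρ hK (mul_mem hb (pow_mem ha i)) (hne i) (hcs i) v
  have h2 : ∀ k ∈ Finset.range s, k ≠ 0 → ∑ i ∈ Finset.range s, ρ ((b * a ^ i) ^ k) v = 0 := by
    intro k hk hk0
    have hk' : a ^ k ≠ 1 := fun h => by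
      have := Nat.le_of_dvd (Nat.pos_of_ne_zero hk0) (orderOf_dvd_of_pow_eq_one h)
      rw [has] at this
      have := Finset.mem_range.1 hk
      omega
    have hks : (a ^ k) ^ s = 1 := by
      rw [← pow_mul, mul_comm, pow_mul, ← has, pow_orderOf_eq_one, one_pow]
    have h := sum_pow_apply_eq_zero ρ hK (pow_mem ha k) hk' hks v
    rw [Finset.sum_congr rfl fun i _ => (show ρ ((b * a ^ i) ^ k) v
      = ρ (b ^ k) (ρ ((a ^ k) ^ i) v) by
        rw [(hab.symm.pow_right i).mul_pow, ← pow_mul, mul_comm i k, pow_mul, map_mul,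
          Module.End.mul_apply]),
      ← map_sum, h, map_zero]
  rw [Finset.sum_comm, Finset.sum_eq_single_of_mem 0 (Finset.mem_range.2 hs.pos) h2] at h1
  simp only [pow_zero, map_one, Module.End.one_apply, Finset.sum_const, Finset.card_range,
    ← Nat.cast_smul_eq_nsmul (ZMod p)] at h1
  refine hv ((smul_eq_zero.1 h1).resolve_left fun h => hsp ?_)
  rw [ZMod.natCast_eq_zero_iff] at h
  exact ((Nat.prime_dvd_prime_iff_eq (Fact.out : p.Prime) hs).1 h).symm

theorem mem_zpowers_of_prime_pow_order [Finite E] [Nontrivial V] {K : Subgroup E}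
    (hK : Semireg ρ K) {s : ℕ} (hs : s.Prime) (hsp : s ≠ p) {t : E} (ht : t ∈ K) {j : ℕ}
    (htj : orderOf t = s ^ j) :
    ∀ (i : ℕ) (q : E), q ∈ K → Commute t q → orderOf q = s ^ i → i ≤ j →
      q ∈ Subgroup.zpowers t := by
  intro i
  induction i with
  | zero =>
    intro q _ _ hq _
    rw [pow_zero, orderOf_eq_one_iff] at hq
    rw [hq]; exact one_mem _
  | succ i ih =>
    intro q hqK htq hq hij
    have hqs : orderOf (q ^ s) = s ^ i := by
      rw [orderOf_pow_of_dvd hs.ne_zero (hq ▸ dvd_pow_self s (Nat.succ_ne_zero i)), hq, pow_succ,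
        Nat.mul_div_cancel _ hs.pos]
    obtain ⟨k, hk⟩ : ∃ k : ℕ, t ^ k = q ^ s :=
      mem_powers_iff_mem_zpowers.2 (ih _ (pow_mem hqK s) (htq.pow_right s) hqs (by omega))
    have hsk : s ∣ k := by
      by_contra hsk
      have hcop : Nat.Coprime (orderOf t) k := by
        rw [htj]; exact Nat.Coprime.pow_left j ((Nat.Prime.coprime_iff_not_dvd hs).2 hsk)
      have h := hcop.orderOf_pow (y := t)
      rw [hk, hqs, htj] at h
      have := Nat.pow_right_injective hs.two_le h
      omega
    obtain ⟨l, rfl⟩ := hsk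
    set q' := q * (t ^ l)⁻¹ with hq'
    have hq's : q' ^ s = 1 := by
      rw [hq', ((htq.pow_left l).symm.inv_right).mul_pow, inv_pow, ← pow_mul, mul_comm l, hk,
        mul_inv_cancel]
    obtain ⟨t₀, ht₀, ht₀s⟩ : ∃ t₀, t₀ ∈ Subgroup.zpowers t ∧ orderOf t₀ = s := by
      refine ⟨t ^ s ^ (j - 1), Subgroup.npow_mem_zpowers t _, ?_⟩
      rw [orderOf_pow_of_dvd (pow_ne_zero _ hs.ne_zero) (htj ▸ pow_dvd_pow s (by omega)), htj,
        Nat.pow_div (by omega) hs.pos, show j - (j - 1) = 1 by omega, pow_one]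
    have h := mem_zpowers_of_prime_order ρ hK (Subgroup.zpowers_le.2 ht ht₀)
      (mul_mem hqK (inv_mem (pow_mem ht l)))
      (commute_of_mem_zpowers (b := t) ht₀ ((htq.symm.mul_left
        ((Commute.refl t).pow_left l).inv_left))).symm hs hsp ht₀s hq's
    have h' := mul_mem (mem_zpowers_trans h ht₀) (Subgroup.npow_mem_zpowers t l)
    rwa [inv_mul_cancel_right] at h'

/-- Elements of a semiregular centralizer satisfy the criterion. -/
theorem crit_of_semireg [Finite E] [Nontrivial V] (hpE : ¬ p ∣ Nat.card E) {K : Subgroup E}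
    (hK : Semireg ρ K) {q : E} (hqK : q ∈ K) (hC : ∀ t, Commute t q → t ∈ K) : Crit q := by
  intro t htq s j hs hsq htj
  have hsp : s ≠ p := fun h => hpE (h ▸ hsq.trans (orderOf_dvd_natCard q))
  obtain ⟨i, m', hm', hqo⟩ := Nat.exists_eq_pow_mul_and_not_dvd (orderOf_pos q).ne' s hs.ne_one
  have hm0 : m' ≠ 0 := fun h => hm' (h ▸ dvd_zero _)
  have ho1 : orderOf (q ^ m') = s ^ i := by
    rw [orderOf_pow_of_dvd hm0 ⟨s ^ i, by rw [hqo, mul_comm]⟩, hqo,
      Nat.mul_div_cancel _ (Nat.pos_of_ne_zero hm0)]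
  have ho2 : orderOf (q ^ s ^ i) = m' := by
    rw [orderOf_pow_of_dvd (pow_ne_zero _ hs.ne_zero) ⟨m', hqo⟩, hqo,
      Nat.mul_div_cancel_left _ (pow_pos hs.pos i)]
  rcases le_total j i with hji | hij
  · exact ⟨q, Subgroup.mem_zpowers q, mem_zpowers_trans
      (mem_zpowers_of_prime_pow_order ρ hK hs hsp (pow_mem hqK m') ho1 j t (hC t htq)
        (htq.symm.pow_left m') htj hji) (Subgroup.npow_mem_zpowers q m')⟩
  · have h1 := mem_zpowers_of_prime_pow_order ρ hK hs hsp (hC t htq) htj i _ (pow_mem hqK m')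
      (htq.pow_right m') ho1 hij
    have hcop : Nat.Coprime (orderOf t) (orderOf (q ^ s ^ i)) := by
      rw [htj, ho2]; exact Nat.Coprime.pow_left j ((Nat.Prime.coprime_iff_not_dvd hs).2 hm')
    have hc := htq.pow_right (s ^ i)
    refine ⟨t * q ^ s ^ i, ?_, mem_zpowers_mul_of_coprime hc hcop⟩
    have h2 : q ^ s ^ i ∈ Subgroup.zpowers (t * q ^ s ^ i) := by
      rw [hc.eq]; exact mem_zpowers_mul_of_coprime hc.symm hcop.symm
    have h1' := mem_zpowers_trans h1 (mem_zpowers_mul_of_coprime hc hcop)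
    obtain ⟨u, w, huw⟩ : IsCoprime ((m' : ℕ) : ℤ) ((s ^ i : ℕ) : ℤ) :=
      Nat.isCoprime_iff_coprime.2
        (Nat.Coprime.pow_right i ((Nat.Prime.coprime_iff_not_dvd hs).2 hm').symm)
    have h3 : q = (q ^ m') ^ u * (q ^ s ^ i) ^ w := by
      rw [← zpow_natCast q m', ← zpow_natCast q (s ^ i), ← zpow_mul, ← zpow_mul, ← zpow_add,
        mul_comm _ u, mul_comm _ w, huw, zpow_one]
    exact (congrArg (· ∈ Subgroup.zpowers (t * q ^ s ^ i)) h3).mpr
      (mul_mem (Subgroup.zpow_mem _ h1' u) (Subgroup.zpow_mem _ h2 w))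

/-- The index of a stabilizer is the number of nonzero vectors. -/
theorem index_fixer [Finite V] (htr : ∀ v w : V, v ≠ 0 → w ≠ 0 → ∃ a, ρ a v = w) {v : V}
    (hv : v ≠ 0) : (fixer ρ v).index = Nat.card V - 1 := by
  have hcongr : ∀ a b : E, (a : E ⧸ fixer ρ v) = b → ρ a v = ρ b v := by
    intro a b h
    have h' : ρ (a⁻¹ * b) v = v := QuotientGroup.eq.1 h
    calc ρ a v = ρ a (ρ (a⁻¹ * b) v) := by rw [h']
      _ = ρ b v := by rw [← Module.End.mul_apply, ← map_mul, mul_inv_cancel_left]
  have hne : ∀ a : E, ρ a v ≠ 0 := fun a h => hv (by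
    have := congrArg (ρ a⁻¹) h
    rwa [← Module.End.mul_apply, ← map_mul, inv_mul_cancel, map_one, Module.End.one_apply,
      map_zero] at this)
  let f : E ⧸ fixer ρ v → {w : V // w ≠ 0} := fun q => Quotient.liftOn' q
    (fun a => ⟨ρ a v, hne a⟩) fun a b h => Subtype.ext (hcongr a b (Quotient.sound' h))
  have hf : Function.Bijective f := by
    constructor
    · rintro ⟨a⟩ ⟨b⟩ h
      have h' : ρ a v = ρ b v := congrArg Subtype.val h
      refine QuotientGroup.eq.2 ?_
      show ρ (a⁻¹ * b) v = v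
      rw [map_mul, Module.End.mul_apply, ← h', ← Module.End.mul_apply, ← map_mul, inv_mul_cancel,
        map_one, Module.End.one_apply]
    · rintro ⟨w, hw⟩
      obtain ⟨a, ha⟩ := htr v w hv hw
      exact ⟨(a : E ⧸ fixer ρ v), Subtype.ext ha⟩
  rw [Subgroup.index, Nat.card_congr (Equiv.ofBijective f hf)]
  cases nonempty_fintype V
  rw [Nat.card_eq_fintype_card, Fintype.card_subtype_compl, Fintype.card_subtype_eq,
    Nat.card_eq_fintype_card]

/-- A cyclic group with at most one nontrivial class acts on at most three vectors. -/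
theorem natCard_le_three_of_isCyclic [Finite E] [Finite V] [IsCyclic E]
    (htr : ∀ v w : V, v ≠ 0 → w ≠ 0 → ∃ a, ρ a v = w)
    (hreg : ∀ a b : E, Crit a → Crit b → a ≠ 1 → b ≠ 1 → IsConj a b) : Nat.card V ≤ 3 := by
  by_contra h
  haveI : Nontrivial V := Finite.one_lt_card_iff_nontrivial.1 (by omega)
  obtain ⟨v, hv⟩ := exists_ne (0 : V)
  have h1 := index_fixer ρ htr hv
  have h2 : (fixer ρ v).index ≤ Nat.card E :=
    Nat.le_of_dvd Nat.card_pos (fixer ρ v).index_dvd_card
  have h3 : Nat.card E ≤ 2 := by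
    cases nonempty_fintype E
    rw [Nat.card_eq_fintype_card]
    by_contra h3
    obtain ⟨a, b, c, hab, hac, hbc⟩ := Fintype.two_lt_card_iff.1 (by omega : 2 < Fintype.card E)
    have key : ∀ a b : E, a ≠ 1 → b ≠ 1 → a = b := fun a b ha hb => by
      obtain ⟨k, hk⟩ := isConj_iff.1 (hreg a b (crit_of_isCyclic a) (crit_of_isCyclic b) ha hb)
      rw [← hk, (IsCyclic.commGroup (α := E)).mul_comm k a, mul_inv_cancel_right]
    by_cases ha : a = 1
    · exact hbc (key b c (fun h => hab (ha.trans h.symm)) (fun h => hac (ha.trans h.symm)))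
    by_cases hb : b = 1
    · exact hac (key a c ha (fun h => hbc (hb.trans h.symm)))
    exact hab (key a b ha hb)
  omega

theorem isCyclic_of_finrank_eq_one [Finite E] (hρ : Function.Injective ρ) {v : V} (hv : v ≠ 0)
    (h : Module.finrank (ZMod p) V = 1) : IsCyclic E := by
  have hall := (finrank_eq_one_iff_of_nonzero' v hv).1 h
  choose c hc using fun a : E => hall (ρ a v)
  have hinj := smul_left_injective (ZMod p) hv
  let f : E →* ZMod p :=
    { toFun := c
      map_one' := hinj (by simp only [hc, map_one, Module.End.one_apply, one_smul])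
      map_mul' := fun a b => hinj (by
        simp only [hc, map_mul, Module.End.mul_apply]
        rw [← hc b, map_smul, ← hc a, smul_smul, mul_comm]) }
  refine isCyclic_of_injective_ringHom f fun a b hab => hρ (LinearMap.ext fun w => ?_)
  obtain ⟨d, rfl⟩ := hall w
  rw [map_smul, map_smul, ← hc a, ← hc b, show c a = c b from hab]

/-- In dimension two stabilizers are cyclic. -/
theorem isCyclic_fixer_of_finrank_eq_two [Finite E] (hρ : Function.Injective ρ)
    (hpE : ¬ p ∣ Nat.card E) {v : V} (hv : v ≠ 0) (h2 : Module.finrank (ZMod p) V = 2) :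
    IsCyclic (fixer ρ v) := by
  haveI : Module.Finite (ZMod p) V := Module.finite_of_finrank_eq_succ h2
  obtain ⟨w, hw⟩ : ∃ w, w ∉ Submodule.span (ZMod p) {v} := by
    by_contra hno
    push Not at hno
    have htop : Submodule.span (ZMod p) {v} = ⊤ := Submodule.eq_top_iff'.2 hno
    have := finrank_span_singleton (K := ZMod p) hv
    rw [htop, finrank_top, h2] at this
    omega
  have hli : LinearIndependent (ZMod p) ![v, w] :=
    LinearIndependent.pair_iff.2 fun s t hst => by
      have ht : t = 0 := by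
        by_contra ht
        refine hw ?_
        rw [show w = (-(t⁻¹ * s)) • v from ?_]
        · exact Submodule.smul_mem _ _ (Submodule.mem_span_singleton_self v)
        · have h := congrArg (fun x => t⁻¹ • x) hst
          simp only [smul_add, smul_smul, inv_mul_cancel₀ ht, one_smul, smul_zero] at h
          rw [neg_smul]
          exact eq_neg_of_add_eq_zero_right h
      rw [ht, zero_smul, add_zero] at hst
      exact ⟨(smul_eq_zero.1 hst).resolve_right hv, ht⟩
  let B := basisOfLinearIndependentOfCardEqFinrank hli (by simp [h2])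
  have hB0 : B 0 = v := by simp [B]
  have hB1 : B 1 = w := by simp [B]
  have hdec : ∀ x : V, x = B.repr x 0 • v + B.repr x 1 • w := fun x => by
    conv_lhs => rw [← B.sum_repr x]
    rw [Fin.sum_univ_two, hB0, hB1]
  have hfw : B.repr w 1 = 1 := by rw [← hB1, B.repr_self]; simp
  have hfv : B.repr v 1 = 0 := by rw [← hB0, B.repr_self]; simp
  let f : fixer ρ v →* ZMod p :=
    { toFun := fun a => B.repr (ρ a w) 1
      map_one' := by simp [hfw]
      map_mul' := fun a b => by
        show B.repr (ρ ((a : E) * b) w) 1 = _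
        rw [map_mul, Module.End.mul_apply]
        conv_lhs => rw [hdec (ρ b w)]
        rw [map_add, map_smul, map_smul, show ρ (a : E) v = v from a.2]
        simp [hfv, mul_comm] }
  refine isCyclic_of_injective_ringHom f ((injective_iff_map_eq_one f).2 fun a ha => ?_)
  set c := B.repr (ρ (a : E) w) 0
  have haw : ρ (a : E) w = c • v + w := by
    conv_lhs => rw [hdec (ρ (a : E) w), show B.repr (ρ (a : E) w) 1 = 1 from ha, one_smul]
  have hk : ∀ k : ℕ, ρ ((a : E) ^ k) w = ((k : ZMod p) * c) • v + w := by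
    intro k
    induction k with
    | zero => simp
    | succ k ih =>
      rw [pow_succ', map_mul, Module.End.mul_apply, ih, map_add, map_smul,
        show ρ (a : E) v = v from a.2, haw, Nat.cast_succ, add_mul, one_mul, add_smul, add_assoc]
  have hap : (a : E) ^ p = 1 := hρ (LinearMap.ext fun x => by
    simp only [map_one, Module.End.one_apply]
    rw [hdec x, map_add, map_smul, map_smul, hk, ZMod.natCast_self,
      zero_mul, zero_smul, zero_add,
      show ρ ((a : E) ^ p) v = v from (fixer ρ v).pow_mem a.2 p])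
  refine Subtype.ext (orderOf_eq_one_iff.1 ?_)
  exact ((Nat.dvd_prime (Fact.out : p.Prime)).1 (orderOf_dvd_of_pow_eq_one hap)).resolve_right
    fun h => hpE (h ▸ orderOf_dvd_natCard (a : E))

theorem semireg_top_of_isCyclic (hstab : ∀ v : V, v ≠ 0 → ∀ q : fixer ρ v, Crit q → q = 1)
    (hcyc : ∀ v : V, v ≠ 0 → IsCyclic (fixer ρ v)) : Semireg ρ ⊤ := by
  intro a _ ha v hav
  by_contra hv
  haveI := hcyc v hv
  exact ha (congrArg Subtype.val (hstab v hv ⟨a, hav⟩ (crit_of_isCyclic _)))

/-- Dimension two, odd characteristic. -/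
theorem false_of_finrank_eq_two [Finite E] [Finite V] (hρ : Function.Injective ρ)
    (hpE : ¬ p ∣ Nat.card E) (htr : ∀ v w : V, v ≠ 0 → w ≠ 0 → ∃ a, ρ a v = w)
    (hreg : ∀ a b : E, Crit a → Crit b → a ≠ 1 → b ≠ 1 → IsConj a b)
    (hstab : ∀ v : V, v ≠ 0 → ∀ q : fixer ρ v, Crit q → q = 1) (hp2 : p ≠ 2)
    (hV : Nat.card V = p ^ 2) (h2 : Module.finrank (ZMod p) V = 2) : False := by
  have hp : p.Prime := Fact.out
  have hp3 : 3 ≤ p := by have := hp.two_le; omega
  haveI : Nontrivial V := Finite.one_lt_card_iff_nontrivial.1 (by rw [hV]; nlinarith)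
  have hS := semireg_top_of_isCyclic ρ hstab fun v hv =>
    isCyclic_fixer_of_finrank_eq_two ρ hρ hpE hv h2
  have hcrit : ∀ q : E, Crit q := fun q =>
    crit_of_semireg ρ hpE hS (Subgroup.mem_top q) fun t _ => Subgroup.mem_top t
  obtain ⟨v, hv⟩ := exists_ne (0 : V)
  have hidx := (fixer ρ v).index_dvd_card
  rw [index_fixer ρ htr hv, hV] at hidx
  have h2E : 2 ∣ Nat.card E := by
    refine dvd_trans ?_ hidx
    obtain ⟨k, rfl⟩ := hp.odd_of_ne_two hp2
    refine ⟨2 * (k * k + k), ?_⟩
    rw [show (2 * k + 1) ^ 2 = 2 * (2 * (k * k + k)) + 1 by ring, Nat.add_sub_cancel]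
  obtain ⟨z, hz⟩ := exists_prime_orderOf_dvd_card' (G := E) 2 h2E
  have hz1 : z ≠ 1 := fun h => by rw [h, orderOf_one] at hz; omega
  have hconj := hreg
  -- every nontrivial element is an involution, hence equal to `z`
  have hinv : ∀ a : E, a ≠ 1 → orderOf a = 2 := fun a ha => by
    obtain ⟨k, hk⟩ := isConj_iff.1 (hconj z a (hcrit z) (hcrit a) hz1 ha)
    rw [← hk, ← hz]
    exact (MulAut.conj k).orderOf_eq z
  have huniq : ∀ a : E, a ≠ 1 → a = z := by
    intro a ha
    have hsq : ∀ b : E, b * b = 1 := fun b => by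
      by_cases hb : b = 1
      · rw [hb, one_mul]
      · rw [← pow_two, ← hinv b hb, pow_orderOf_eq_one]
    have hinv' : ∀ b : E, b⁻¹ = b := fun b => inv_eq_of_mul_eq_one_right (hsq b)
    obtain ⟨k, hk⟩ := isConj_iff.1 (hconj z a (hcrit z) (hcrit a) hz1 ha)
    have hzk : z * k = k * z := by
      rw [← hinv' (z * k), mul_inv_rev, hinv', hinv']
    rw [← hk, ← hzk, mul_inv_cancel_right]
  have hle : Nat.card E ≤ 2 := by
    cases nonempty_fintype E
    rw [Nat.card_eq_fintype_card, ← Finset.card_univ]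
    refine le_trans (Finset.card_le_card (t := {1, z}) fun a _ => ?_) Finset.card_le_two
    by_cases ha : a = 1
    · simp [ha]
    · simp [huniq a ha]
  have := Nat.le_of_dvd Nat.card_pos hidx
  nlinarith [Nat.sub_add_cancel (Nat.one_le_pow 2 p hp.pos)]

/-- A submodule on which an element of primitive prime order fixes only zero. -/
theorem eq_bot_or_eq_top_of_fixed [Finite V] {n r : ℕ} [Fact r.Prime]
    (hn : Module.finrank (ZMod p) V = n)
    (hmin : ∀ k : ℕ, 0 < k → k < n → ¬ r ∣ p ^ k - 1) {x : E} (hxr : x ^ r = 1)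
    (W : Submodule (ZMod p) V) (hW : ∀ v ∈ W, ρ x v ∈ W)
    (hfix : ∀ v ∈ W, ρ x v = v → v = 0) : W = ⊥ ∨ W = ⊤ := by
  have hp : p.Prime := Fact.out
  let f : W → W := fun v => ⟨ρ x v, hW v v.2⟩
  have hit : ∀ (k : ℕ) (v : W), ((f^[k] v : W) : V) = ρ (x ^ k) (v : V) := by
    intro k
    induction k with
    | zero => intro v; simp
    | succ k ih =>
      intro v
      rw [Function.iterate_succ_apply, ih, pow_succ, map_mul, Module.End.mul_apply]
  have h := card_modEq_fixed (r := r) f fun v => Subtype.ext (by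
    rw [hit, hxr, map_one, Module.End.one_apply])
  have h1 : Nat.card {v : W // f v = v} = 1 := by
    refine Nat.card_eq_one_iff_unique.2 ⟨⟨fun a b => ?_⟩, ⟨⟨0, Subtype.ext (by simp [f])⟩⟩⟩
    have ha := hfix _ a.1.2 (congrArg Subtype.val a.2)
    have hb := hfix _ b.1.2 (congrArg Subtype.val b.2)
    exact Subtype.ext (Subtype.ext (ha.trans hb.symm))
  rw [h1, Module.natCard_eq_pow_finrank (K := ZMod p), Nat.card_zmod] at h
  have hdvd : r ∣ p ^ Module.finrank (ZMod p) W - 1 :=
    (Nat.modEq_iff_dvd' (Nat.one_le_pow _ _ hp.pos)).1 h.symm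
  have hle := hn ▸ Submodule.finrank_le W
  rcases Nat.eq_zero_or_pos (Module.finrank (ZMod p) W) with h0 | h0
  · exact Or.inl (Submodule.finrank_eq_zero.1 h0)
  · refine Or.inr (Submodule.eq_top_of_finrank_eq ?_)
    rcases lt_or_eq_of_le hle with hlt | heq
    · exact absurd hdvd (hmin _ h0 hlt)
    · rw [heq, hn]

theorem fixed_eq_zero_of_orderOf_eq [Finite E] [Finite V] (hρ : Function.Injective ρ) {n r : ℕ}
    [Fact r.Prime] (hn : Module.finrank (ZMod p) V = n) (hdvd : r ∣ p ^ n - 1)
    (hmin : ∀ k : ℕ, 0 < k → k < n → ¬ r ∣ p ^ k - 1) {x : E} (hx : orderOf x = r) {v : V}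
    (hv : ρ x v = v) : v = 0 := by
  have hp : p.Prime := Fact.out
  set W : Submodule (ZMod p) V := LinearMap.ker (ρ x - 1)
  have hW : ∀ u, u ∈ W ↔ ρ x u = u := fun u => by
    simp [W, sub_eq_zero]
  have hxr : x ^ r = 1 := by rw [← hx, pow_orderOf_eq_one]
  have hit : ∀ (k : ℕ) (u : V), (fun u => ρ x u)^[k] u = ρ (x ^ k) u := by
    intro k
    induction k with
    | zero => intro u; simp
    | succ k ih =>
      intro u
      rw [Function.iterate_succ_apply, ih, pow_succ, map_mul, Module.End.mul_apply]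
  have h := card_modEq_fixed (r := r) (fun u => ρ x u) fun u => by
    rw [hit, hxr, map_one, Module.End.one_apply]
  have h1 : Nat.card {u : V // ρ x u = u} = Nat.card W :=
    Nat.card_congr (Equiv.subtypeEquivRight fun u => (hW u).symm)
  rw [h1, Module.natCard_eq_pow_finrank (K := ZMod p) (V := V),
    Module.natCard_eq_pow_finrank (K := ZMod p) (V := W), Nat.card_zmod, hn] at h
  have h1n : 1 ≡ p ^ n [MOD r] := (Nat.modEq_iff_dvd' (Nat.one_le_pow _ _ hp.pos)).2 hdvd
  have hdW : r ∣ p ^ Module.finrank (ZMod p) W - 1 :=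
    (Nat.modEq_iff_dvd' (Nat.one_le_pow _ _ hp.pos)).1 (h1n.trans h)
  have hle := hn ▸ Submodule.finrank_le W
  rcases Nat.eq_zero_or_pos (Module.finrank (ZMod p) W) with h0 | h0
  · have := (hW v).2 hv
    rwa [Submodule.finrank_eq_zero.1 h0, Submodule.mem_bot] at this
  · rcases lt_or_eq_of_le hle with hlt | heq
    · exact absurd hdW (hmin _ h0 hlt)
    · exfalso
      have htop : W = ⊤ := Submodule.eq_top_of_finrank_eq (by rw [heq, hn])
      have hx1 : x = 1 := hρ (LinearMap.ext fun u => by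
        rw [map_one, Module.End.one_apply]
        exact (hW u).1 (htop ▸ Submodule.mem_top))
      rw [hx1, orderOf_one] at hx
      exact (Fact.out : r.Prime).ne_one hx.symm

theorem semireg_centralizer [Finite E] [Finite V] (hρ : Function.Injective ρ) {n r : ℕ}
    [Fact r.Prime] (hn : Module.finrank (ZMod p) V = n) (hdvd : r ∣ p ^ n - 1)
    (hmin : ∀ k : ℕ, 0 < k → k < n → ¬ r ∣ p ^ k - 1) {x : E} (hx : orderOf x = r) :
    Semireg ρ (Subgroup.centralizer {x}) := by
  intro w hw hw1 v hv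
  rw [Subgroup.mem_centralizer_singleton_iff] at hw
  set W : Submodule (ZMod p) V := LinearMap.ker (ρ w - 1)
  have hW : ∀ u, u ∈ W ↔ ρ w u = u := fun u => by simp [W, sub_eq_zero]
  rcases eq_bot_or_eq_top_of_fixed ρ hn hmin (x := x) (by rw [← hx, pow_orderOf_eq_one]) W
    (fun u hu => by
      rw [hW] at hu ⊢
      rw [← Module.End.mul_apply, ← map_mul, hw, map_mul, Module.End.mul_apply, hu])
    (fun u _ hu => fixed_eq_zero_of_orderOf_eq ρ hρ hn hdvd hmin hx hu) with h | h
  · have := (hW v).2 hv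
    rwa [h, Submodule.mem_bot] at this
  · refine absurd (hρ (LinearMap.ext fun u => ?_)) hw1
    rw [map_one, Module.End.one_apply]
    exact (hW u).1 (h ▸ Submodule.mem_top)

/-- The elements of primitive prime order: self-centralizing, one class. -/
theorem of_orderOf_eq_primitive [Finite E] [Finite V] [Nontrivial V] (hρ : Function.Injective ρ)
    (hpE : ¬ p ∣ Nat.card E)
    (hreg : ∀ a b : E, Crit a → Crit b → a ≠ 1 → b ≠ 1 → IsConj a b) {n r : ℕ}
    [Fact r.Prime] (hn : Module.finrank (ZMod p) V = n) (hdvd : r ∣ p ^ n - 1)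
    (hmin : ∀ k : ℕ, 0 < k → k < n → ¬ r ∣ p ^ k - 1) {x : E} (hx : orderOf x = r) :
    Subgroup.centralizer {x} = Subgroup.zpowers x ∧
      ∀ y : E, orderOf y = r → IsConj x y := by
  have hr : r.Prime := Fact.out
  have hcrit : ∀ {y : E}, orderOf y = r → ∀ {w : E}, Commute w y → y ∈ Subgroup.zpowers w →
      Crit w := fun {y} hy {w} hwy hyw =>
    crit_of_semireg ρ hpE (semireg_centralizer ρ hρ hn hdvd hmin hy)
      (Subgroup.mem_centralizer_singleton_iff.2 hwy) fun t ht =>
      Subgroup.mem_centralizer_singleton_iff.2 (commute_of_mem_zpowers hyw ht)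
  have hne : ∀ {y : E}, orderOf y = r → y ≠ 1 := fun {y} hy h => by
    rw [h, orderOf_one] at hy; exact hr.ne_one hy.symm
  have hconj : ∀ y : E, orderOf y = r → IsConj x y := fun y hy =>
    hreg x y (hcrit hx (Commute.refl x) (Subgroup.mem_zpowers x))
      (hcrit hy (Commute.refl y) (Subgroup.mem_zpowers y)) (hne hx) (hne hy)
  refine ⟨le_antisymm ?_ (Subgroup.zpowers_le.2
    (Subgroup.mem_centralizer_singleton_iff.2 rfl)), hconj⟩
  have hord : ∀ w : E, Commute w x → x ∈ Subgroup.zpowers w → orderOf w = r := by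
    intro w hwx hxw
    obtain ⟨k, hk⟩ := isConj_iff.1 (hreg x w (hcrit hx (Commute.refl x) (Subgroup.mem_zpowers x))
      (hcrit hx hwx hxw) (hne hx) fun h => hne hx (by simpa [h] using hxw))
    rw [← hk, ← hx]
    exact (MulAut.conj k).orderOf_eq x
  intro w hw
  have hwx : Commute w x := Subgroup.mem_centralizer_singleton_iff.1 hw
  obtain ⟨i, m, hm, hwo⟩ := Nat.exists_eq_pow_mul_and_not_dvd (orderOf_pos w).ne' r hr.ne_one
  have hm1 : m = 1 := by
    have hz : orderOf (w ^ r ^ i) = m := by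
      rw [orderOf_pow_of_dvd (pow_ne_zero _ hr.ne_zero) ⟨m, hwo⟩, hwo,
        Nat.mul_div_cancel_left _ (pow_pos hr.pos i)]
    have hzx := hwx.pow_left (r ^ i)
    have hcop : Nat.Coprime (orderOf x) (orderOf (w ^ r ^ i)) := by
      rw [hx, hz]; exact (Nat.Prime.coprime_iff_not_dvd hr).2 hm
    have h1 := hord (x * w ^ r ^ i) ((Commute.refl x).mul_left hzx)
      (mem_zpowers_mul_of_coprime hzx.symm hcop)
    rw [Commute.orderOf_mul_eq_mul_orderOf_of_coprime hzx.symm hcop, hx, hz] at h1
    exact Nat.eq_of_mul_eq_mul_left hr.pos (h1.trans (mul_one r).symm)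
  rw [hm1, mul_one] at hwo
  have hrp : r ≠ p := fun h => hpE (h ▸ hx ▸ orderOf_dvd_natCard x)
  have hK := semireg_centralizer ρ hρ hn hdvd hmin hx
  have hxK : x ∈ Subgroup.centralizer {x} := Subgroup.mem_centralizer_singleton_iff.2 rfl
  rcases Nat.lt_or_ge 1 i with hi | hi
  · have h1 := mem_zpowers_of_prime_pow_order ρ hK hr hrp hw hwo 1 x hxK hwx (by simpa using hx)
      (by omega)
    have h2 := hord w hwx h1
    rw [hwo] at h2
    have := Nat.pow_right_injective hr.two_le (h2.trans (pow_one r).symm)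
    omega
  · exact mem_zpowers_of_prime_pow_order ρ hK hr hrp hxK (by simpa using hx : orderOf x = r ^ 1)
      i w hw hwx.symm hwo hi

theorem not_sq_dvd_natCard [Finite E] [Finite V] [Nontrivial V] (hρ : Function.Injective ρ)
    (hpE : ¬ p ∣ Nat.card E)
    (hreg : ∀ a b : E, Crit a → Crit b → a ≠ 1 → b ≠ 1 → IsConj a b) {n r : ℕ}
    [Fact r.Prime] (hn : Module.finrank (ZMod p) V = n) (hdvd : r ∣ p ^ n - 1)
    (hmin : ∀ k : ℕ, 0 < k → k < n → ¬ r ∣ p ^ k - 1) : ¬ r ^ 2 ∣ Nat.card E := by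
  intro h
  obtain ⟨P, hP⟩ := Sylow.exists_subgroup_card_pow_prime r h
  obtain ⟨y, hy⟩ := exists_prime_orderOf_dvd_card' (G := P) r (hP ▸ dvd_pow_self r two_ne_zero)
  have hyE : orderOf (y : E) = r := by rw [Subgroup.orderOf_coe]; exact hy
  have hle : P ≤ Subgroup.zpowers (y : E) := by
    rw [← (of_orderOf_eq_primitive ρ hρ hpE hreg hn hdvd hmin hyE).1]
    intro a ha
    rw [Subgroup.mem_centralizer_singleton_iff]
    exact congrArg Subtype.val ((IsPGroup.isMulCommutative_of_card_eq_prime_sq hP).is_comm.comm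
      ⟨a, ha⟩ y)
  have hc := Subgroup.card_le_of_le hle
  rw [hP, Nat.card_zpowers, hyE] at hc
  have := (Fact.out : r.Prime).two_le
  nlinarith

theorem aeval_conj (c x : E) (g : Polynomial (ZMod p)) :
    Polynomial.aeval (ρ (c * x * c⁻¹)) g = ρ c * Polynomial.aeval (ρ x) g * ρ c⁻¹ := by
  induction g using Polynomial.induction_on' with
  | add a b ha hb => rw [map_add, map_add, ha, hb, mul_add, add_mul]
  | monomial k a =>
    rw [Polynomial.aeval_monomial, Polynomial.aeval_monomial, ← map_pow, ← map_pow, conj_pow,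
      map_mul, map_mul, ← Algebra.smul_def, ← Algebra.smul_def, mul_smul_comm, smul_mul_assoc]

theorem sub_one_le_finrank [Finite E] [Finite V] [Nontrivial V] (hρ : Function.Injective ρ)
    (hpE : ¬ p ∣ Nat.card E)
    (hreg : ∀ a b : E, Crit a → Crit b → a ≠ 1 → b ≠ 1 → IsConj a b) {n r : ℕ}
    [Fact r.Prime] (hn : Module.finrank (ZMod p) V = n) (hdvd : r ∣ p ^ n - 1)
    (hmin : ∀ k : ℕ, 0 < k → k < n → ¬ r ∣ p ^ k - 1) {x : E} (hx : orderOf x = r) :
    r - 1 ≤ n := by
  have hr : r.Prime := Fact.out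
  set f := minpoly (ZMod p) (ρ x) with hf
  have hint : IsIntegral (ZMod p) (ρ x) := Algebra.IsIntegral.isIntegral _
  have hdeg : f.natDegree ≤ n := by
    rw [← hn, ← LinearMap.charpoly_natDegree (ρ x)]
    exact Polynomial.natDegree_le_of_dvd (LinearMap.minpoly_dvd_charpoly (ρ x))
      (LinearMap.charpoly_monic _).ne_zero
  obtain ⟨ζ, hζ⟩ := IsAlgClosed.exists_aeval_eq_zero (AlgebraicClosure (ZMod p)) f
    (Polynomial.natDegree_pos_iff_degree_pos.1 (minpoly.natDegree_pos hint)).ne'
  have hζr : ζ ^ r = 1 := by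
    have hd : f ∣ Polynomial.X ^ r - 1 := minpoly.dvd _ _ (by
      rw [map_sub, map_pow, Polynomial.aeval_X, map_one, ← map_pow, ← hx, pow_orderOf_eq_one,
        map_one, sub_self])
    obtain ⟨g, hg⟩ := hd
    have h := congrArg (Polynomial.aeval ζ) hg
    rw [map_mul, hζ, zero_mul, map_sub, map_pow, Polynomial.aeval_X, map_one, sub_eq_zero] at h
    exact h
  have hζ1 : ζ ≠ 1 := by
    intro h
    rw [h, ← map_one (algebraMap (ZMod p) (AlgebraicClosure (ZMod p))),
      Polynomial.aeval_algebraMap_apply_eq_algebraMap_eval, map_eq_zero] at hζ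
    obtain ⟨v, hv⟩ := (Module.End.hasEigenvalue_of_isRoot (f := ρ x) hζ).exists_hasEigenvector
    refine hv.2 (fixed_eq_zero_of_orderOf_eq ρ hρ hn hdvd hmin hx ?_)
    rw [hv.apply_eq_smul, one_smul]
  have hord : orderOf ζ = r := orderOf_eq_prime hζr hζ1
  have hroot : ∀ k ∈ Finset.Ico 1 r, ζ ^ k ∈ (f.aroots (AlgebraicClosure (ZMod p))).toFinset := by
    intro k hk
    rw [Finset.mem_Ico] at hk
    rw [Multiset.mem_toFinset, Polynomial.mem_aroots]
    refine ⟨minpoly.ne_zero hint, ?_⟩
    have hcop : Nat.Coprime (orderOf x) k := by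
      rw [hx, Nat.Prime.coprime_iff_not_dvd hr]
      exact fun h => by have := Nat.le_of_dvd (by omega) h; omega
    have hxk : orderOf (x ^ k) = r := by rw [hcop.orderOf_pow, hx]
    obtain ⟨c, hc⟩ := isConj_iff.1
      ((of_orderOf_eq_primitive ρ hρ hpE hreg hn hdvd hmin hx).2 _ hxk)
    have hd : f ∣ f.comp (Polynomial.X ^ k) := minpoly.dvd _ _ (by
      rw [Polynomial.aeval_comp, map_pow, Polynomial.aeval_X, ← map_pow, ← hc, aeval_conj, hf,
        minpoly.aeval, mul_zero, zero_mul])
    obtain ⟨g, hg⟩ := hd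
    have h := congrArg (Polynomial.aeval ζ) hg
    rwa [Polynomial.aeval_comp, map_pow, Polynomial.aeval_X, map_mul, hζ, zero_mul] at h
  have hinj : Set.InjOn (fun k : ℕ => ζ ^ k) (Finset.Ico 1 r : Finset ℕ) := by
    intro a ha b hb hab
    have ha' : a < orderOf ζ := by rw [hord]; exact (Finset.mem_Ico.1 ha).2
    have hb' : b < orderOf ζ := by rw [hord]; exact (Finset.mem_Ico.1 hb).2
    exact pow_injOn_Iio_orderOf ha' hb' hab
  calc r - 1 = (Finset.Ico 1 r).card := (Nat.card_Ico 1 r).symm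
    _ ≤ (f.aroots (AlgebraicClosure (ZMod p))).toFinset.card :=
        Finset.card_le_card_of_injOn _ hroot hinj
    _ ≤ Multiset.card (f.aroots (AlgebraicClosure (ZMod p))) := Multiset.toFinset_card_le _
    _ ≤ (f.map (algebraMap (ZMod p) (AlgebraicClosure (ZMod p)))).natDegree :=
        Polynomial.card_roots' _
    _ = f.natDegree := Polynomial.natDegree_map _
    _ ≤ n := hdeg

/-- A commutative family of involutions has a common eigenvector. -/
theorem exists_common_eigenvector [Nontrivial V] (s : Finset E) :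
    (∀ a ∈ s, a * a = 1) → (∀ a ∈ s, ∀ b ∈ s, Commute a b) →
      ∃ v : V, v ≠ 0 ∧ ∀ a ∈ s, ρ a v = v ∨ ρ a v = -v := by
  induction s using Finset.induction_on with
  | empty =>
    intro _ _
    obtain ⟨v, hv⟩ := exists_ne (0 : V)
    exact ⟨v, hv, fun a ha => absurd ha (Finset.notMem_empty a)⟩
  | @insert b s _ ih =>
    intro hsq hcomm
    obtain ⟨v, hv, hvs⟩ := ih (fun a ha => hsq a (Finset.mem_insert_of_mem ha))
      fun a ha c hc => hcomm a (Finset.mem_insert_of_mem ha) c (Finset.mem_insert_of_mem hc)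
    have hbb : ρ b (ρ b v) = v := by
      rw [← Module.End.mul_apply, ← map_mul, hsq b (Finset.mem_insert_self b s), map_one,
        Module.End.one_apply]
    by_cases hu : ρ b v + v = 0
    · refine ⟨v, hv, fun a ha => ?_⟩
      rcases Finset.mem_insert.1 ha with rfl | ha
      · exact Or.inr (eq_neg_of_add_eq_zero_left hu)
      · exact hvs a ha
    · refine ⟨ρ b v + v, hu, fun a ha => ?_⟩
      rcases Finset.mem_insert.1 ha with rfl | ha
      · exact Or.inl (by rw [map_add, hbb, add_comm])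
      · have hab : ρ a (ρ b v) = ρ b (ρ a v) := by
          rw [← Module.End.mul_apply, ← map_mul,
            (hcomm a (Finset.mem_insert_of_mem ha) b (Finset.mem_insert_self b s)).eq, map_mul,
            Module.End.mul_apply]
        rcases hvs a ha with h | h
        · exact Or.inl (by rw [map_add, hab, h])
        · exact Or.inr (by rw [map_add, hab, h, map_neg, neg_add])

theorem natCard_dvd_GL [Finite E] (hρ : Function.Injective ρ) [Module.Finite (ZMod p) V] {n : ℕ}
    (hn : Module.finrank (ZMod p) V = n) :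
    Nat.card E ∣ ∏ i : Fin n, (p ^ n - p ^ (i : ℕ)) := by
  let b := Module.finBasisOfFinrankEq (ZMod p) V hn
  let g : E →* Matrix (Fin n) (Fin n) (ZMod p) :=
    (LinearMap.toMatrixAlgEquiv b).toAlgHom.toRingHom.toMonoidHom.comp ρ
  have hg : Function.Injective g.toHomUnits := fun a c h =>
    hρ ((LinearMap.toMatrixAlgEquiv b).injective (congrArg Units.val h))
  have h := Subgroup.card_dvd_of_injective g.toHomUnits hg
  have h' := Matrix.card_GL_field (𝔽 := ZMod p) n
  rw [ZMod.card] at h'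
  rwa [h'] at h

/-- The case of dimension four in characteristic three. -/
theorem false_of_three_four [Finite E] [Finite V] (hρ : Function.Injective ρ)
    (hpE : ¬ p ∣ Nat.card E) (htr : ∀ v w : V, v ≠ 0 → w ≠ 0 → ∃ a, ρ a v = w)
    (hreg : ∀ a b : E, Crit a → Crit b → a ≠ 1 → b ≠ 1 → IsConj a b)
    (hsq : ∀ v : V, v ≠ 0 → IsSquare (Nat.card (fixer ρ v))) (hp3 : p = 3)
    (hn : Module.finrank (ZMod p) V = 4) (hV : Nat.card V = p ^ 4) : False := by
  subst hp3
  haveI : Nontrivial V := Finite.one_lt_card_iff_nontrivial.1 (by rw [hV]; norm_num)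
  haveI : Fact (Nat.Prime 5) := ⟨by norm_num⟩
  have hdvd : 5 ∣ 3 ^ 4 - 1 := by norm_num
  have hmin : ∀ k : ℕ, 0 < k → k < 4 → ¬ 5 ∣ 3 ^ k - 1 := by
    intro k hk hk4
    interval_cases k <;> norm_num
  obtain ⟨v₀, hv₀⟩ := exists_ne (0 : V)
  have hcard : ∀ v : V, v ≠ 0 → 80 * Nat.card (fixer ρ v) = Nat.card E := fun v hv => by
    rw [← (fixer ρ v).index_mul_card, index_fixer ρ htr hv, hV]
    norm_num
  obtain ⟨g, hg⟩ := hsq v₀ hv₀
  have hE : Nat.card E = 80 * (g * g) := by rw [← hcard v₀ hv₀, hg]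
  have h5 : 5 ∣ Nat.card E := by rw [hE]; exact dvd_mul_of_dvd_left (by norm_num) _
  obtain ⟨x, hx⟩ := exists_prime_orderOf_dvd_card' (G := E) 5 h5
  have hx5 : x ^ 5 = 1 := by
    have := pow_orderOf_eq_one x
    rwa [hx] at this
  obtain ⟨hC, hconj⟩ := of_orderOf_eq_primitive ρ hρ hpE hreg hn hdvd hmin hx
  haveI : Module.Finite (ZMod 3) V := Module.finite_of_finrank_eq_succ hn
  -- the possible orders
  have hg4 : g = 1 ∨ g = 2 ∨ g = 4 := by
    have h := natCard_dvd_GL ρ hρ hn
    rw [hE, Fin.prod_univ_four] at h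
    norm_num at h
    have h3 : ¬ 3 ∣ g := fun h3 => hpE (by
      rw [hE]; exact dvd_mul_of_dvd_right (dvd_mul_of_dvd_left h3 g) _)
    have h1 : g * g ∣ 416 * 729 := by
      refine (Nat.mul_dvd_mul_iff_left (by norm_num : 0 < 80)).1 ?_
      norm_num
      exact h
    have h2 : g * g ∣ 416 := by
      refine Nat.Coprime.dvd_of_dvd_mul_right ?_ h1
      have hc : Nat.Coprime g 729 := by
        rw [show 729 = 3 ^ 6 by norm_num]
        exact Nat.Coprime.pow_right 6 ((Nat.Prime.coprime_iff_not_dvd Nat.prime_three).2 h3).symm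
      exact Nat.Coprime.mul_left hc hc
    have hle : g ≤ 20 := by
      by_contra hlt
      have := Nat.le_of_dvd (by norm_num) h2
      nlinarith
    have hg0 : g ≠ 0 := fun h0 => by rw [h0] at h2; norm_num at h2
    interval_cases g <;> first
      | omega
      | norm_num at h2
  -- counting the elements of order five
  have hg2 : g = 2 := by
    cases nonempty_fintype E
    have hfix : ∀ a : E, x * a * x⁻¹ = a ↔ a ∈ Subgroup.zpowers x := fun a => by
      rw [← hC, Subgroup.mem_centralizer_singleton_iff, mul_inv_eq_iff_eq_mul, eq_comm]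
    let f : {a : E // a ^ 5 = 1} → {a : E // a ^ 5 = 1} := fun a =>
      ⟨x * a * x⁻¹, by rw [conj_pow, a.2, mul_one, mul_inv_cancel]⟩
    have hit : ∀ (k : ℕ) (a : {a : E // a ^ 5 = 1}),
        ((f^[k] a : {a : E // a ^ 5 = 1}) : E) = x ^ k * a * (x ^ k)⁻¹ := by
      intro k
      induction k with
      | zero => intro a; simp
      | succ k ih =>
        intro a
        rw [Function.iterate_succ_apply, ih]
        show x ^ k * (x * (a : E) * x⁻¹) * (x ^ k)⁻¹ = _
        group
    have hm := card_modEq_fixed (r := 5) f fun a => Subtype.ext (by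
      rw [hit, hx5, one_mul, inv_one, mul_one])
    have h1 : Nat.card {a // f a = a} = 5 := by
      have hpow5 : ∀ a : Subgroup.zpowers x, (a : E) ^ 5 = 1 := by
        rintro ⟨a, ha⟩
        obtain ⟨k, rfl⟩ := Subgroup.mem_zpowers_iff.1 ha
        show (x ^ k) ^ 5 = 1
        rw [← zpow_natCast, ← zpow_mul, mul_comm, zpow_mul, zpow_natCast, hx5, one_zpow]
      let e : {a // f a = a} ≃ Subgroup.zpowers x :=
        { toFun := fun a => ⟨a.1.1, (hfix _).1 (congrArg Subtype.val a.2)⟩
          invFun := fun a => ⟨⟨a.1, hpow5 a⟩, Subtype.ext ((hfix _).2 a.2)⟩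
          left_inv := fun a => rfl
          right_inv := fun a => rfl }
      exact (Nat.card_congr e).trans ((Nat.card_zpowers x).trans hx)
    have h2 : Nat.card {a : E // a ^ 5 = 1} = 1 + Nat.card {a : E // IsConj x a} := by
      rw [Nat.card_eq_fintype_card, Nat.card_eq_fintype_card, Fintype.card_subtype,
        Fintype.card_subtype]
      have hun : (Finset.univ.filter fun a : E => a ^ 5 = 1)
          = insert 1 (Finset.univ.filter fun a : E => IsConj x a) := by
        ext a
        simp only [Finset.mem_filter, Finset.mem_univ, true_and, Finset.mem_insert]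
        constructor
        · intro ha
          by_cases h : a = 1
          · exact Or.inl h
          · exact Or.inr (hconj a (orderOf_eq_prime ha h))
        · rintro (rfl | ha)
          · exact one_pow _
          · obtain ⟨k, hk⟩ := isConj_iff.1 ha
            rw [← hk, conj_pow, hx5, mul_one, mul_inv_cancel]
      rw [hun, Finset.card_insert_of_notMem, add_comm]
      simp only [Finset.mem_filter, Finset.mem_univ, true_and]
      intro h
      rw [isConj_one_left.1 h, orderOf_one] at hx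
      omega
    have h3 := Chars.index_centralizer_mul_card x
    rw [hC, Nat.card_zpowers, hx, hE] at h3
    have h4 := Chars.card_conjClass_eq_index x
    rw [h2, h1, h4, hC] at hm
    unfold Nat.ModEq at hm
    rcases hg4 with rfl | rfl | rfl <;> omega
  subst hg2
  norm_num at hE
  -- the two-core
  obtain ⟨P, -⟩ : ∃ P : Sylow 2 E, True := ⟨default, trivial⟩
  have hPc : Nat.card (P : Subgroup E) = 64 := by
    rw [P.card_eq_multiplicity, hE, show 320 = 2 ^ 6 * 5 by norm_num,
      Nat.factorization_mul (by norm_num) (by norm_num), Finsupp.add_apply,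
      Nat.prime_two.factorization_pow, Nat.Prime.factorization (by norm_num : Nat.Prime 5)]
    simp
  have hPi : (P : Subgroup E).index = 5 := by
    have := (P : Subgroup E).index_mul_card
    rw [hPc, hE] at this
    omega
  set K := (P : Subgroup E).normalCore
  haveI hKn : K.Normal := Subgroup.normalCore_normal _
  have hKne : K ≠ ⊥ := by
    intro h
    let φ := MulAction.toPermHom E (E ⧸ (P : Subgroup E))
    have hinj : Function.Injective φ :=
      (MonoidHom.ker_eq_bot_iff φ).1 ((Subgroup.normalCore_eq_ker _).symm.trans h)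
    have h1 := Subgroup.card_dvd_of_injective φ hinj
    cases nonempty_fintype (E ⧸ (P : Subgroup E))
    rw [hE, Nat.card_perm, ← Subgroup.index, hPi] at h1
    norm_num [Nat.factorial] at h1
  have hK2 : IsPGroup 2 K := P.isPGroup'.to_le (Subgroup.normalCore_le _)
  haveI : Nontrivial K := (Subgroup.nontrivial_iff_ne_bot K).2 hKne
  obtain ⟨z, hz⟩ : ∃ z : Subgroup.center K, orderOf z = 2 := by
    haveI := hK2.center_nontrivial
    refine exists_prime_orderOf_dvd_card' 2 ?_
    obtain ⟨k, hk⟩ := (hK2.to_subgroup (Subgroup.center K)).exists_card_eq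
    have h1 : 1 < Nat.card (Subgroup.center K) := Finite.one_lt_card
    rw [hk] at h1 ⊢
    exact dvd_pow_self 2 fun h => by rw [h] at h1; norm_num at h1
  let A : Subgroup E :=
    { carrier := {a | a ∈ K ∧ a * a = 1 ∧ ∀ k ∈ K, Commute a k}
      mul_mem' := fun {a b} ha hb => ⟨mul_mem ha.1 hb.1, by
        rw [mul_assoc, ← mul_assoc b, ← (ha.2.2 b hb.1).eq, mul_assoc a b, hb.2.1, mul_one,
          ha.2.1], fun k hk => (ha.2.2 k hk).mul_left (hb.2.2 k hk)⟩
      one_mem' := ⟨one_mem _, one_mul _, fun k _ => Commute.one_left k⟩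
      inv_mem' := fun {a} ha => ⟨inv_mem ha.1, by rw [← mul_inv_rev, ha.2.1, inv_one],
        fun k hk => (ha.2.2 k hk).inv_left⟩ }
  have hA1 : ∃ a ∈ A, a ≠ 1 := by
    refine ⟨((z : K) : E), ⟨(z : K).2, ?_, fun k hk => ?_⟩, fun h => ?_⟩
    · have h2 : z ^ 2 = 1 := by rw [← hz, pow_orderOf_eq_one]
      rw [pow_two] at h2
      exact congrArg (fun w : Subgroup.center K => ((w : K) : E)) h2
    · exact (congrArg Subtype.val (Subgroup.mem_center_iff.1 z.2 ⟨k, hk⟩)).symm
    · rw [show z = 1 from Subtype.ext (Subtype.ext h), orderOf_one] at hz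
      omega
  have hAconj : ∀ a ∈ A, x * a * x⁻¹ ∈ A := by
    rintro a ⟨ha1, ha2, ha3⟩
    refine ⟨hKn.conj_mem a ha1 x, ?_, fun k hk => ?_⟩
    · rw [show x * a * x⁻¹ * (x * a * x⁻¹) = x * (a * a) * x⁻¹ by group, ha2, mul_one,
        mul_inv_cancel]
    · have h := ha3 (x⁻¹ * k * x) (by simpa using hKn.conj_mem k hk x⁻¹)
      have h' : x * (a * (x⁻¹ * k * x)) * x⁻¹ = x * (x⁻¹ * k * x * a) * x⁻¹ := by rw [h.eq]
      show x * a * x⁻¹ * k = k * (x * a * x⁻¹)
      calc x * a * x⁻¹ * k = x * (a * (x⁻¹ * k * x)) * x⁻¹ := by group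
        _ = x * (x⁻¹ * k * x * a) * x⁻¹ := h'
        _ = k * (x * a * x⁻¹) := by group
  -- conjugation by `x` fixes only the identity of `A`
  let f : A → A := fun a => ⟨x * a * x⁻¹, hAconj a a.2⟩
  have hit : ∀ (k : ℕ) (a : A), ((f^[k] a : A) : E) = x ^ k * a * (x ^ k)⁻¹ := by
    intro k
    induction k with
    | zero => intro a; simp
    | succ k ih =>
      intro a
      rw [Function.iterate_succ_apply, ih]
      show x ^ k * (x * (a : E) * x⁻¹) * (x ^ k)⁻¹ = _
      group
  have hm := card_modEq_fixed (r := 5) f fun a => Subtype.ext (by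
    rw [hit, hx5, one_mul, inv_one, mul_one])
  have h1 : Nat.card {a // f a = a} = 1 := by
    refine Nat.card_eq_one_iff_unique.2
      ⟨⟨fun a b => ?_⟩, ⟨⟨1, Subtype.ext (by simp [f])⟩⟩⟩
    have key : ∀ a : {a // f a = a}, (a.1 : E) = 1 := by
      intro a
      have h : (a.1 : E) ∈ Subgroup.zpowers x := by
        rw [← hC, Subgroup.mem_centralizer_singleton_iff]
        have := congrArg Subtype.val a.2
        rw [show ((f a.1 : A) : E) = x * a.1 * x⁻¹ from rfl, mul_inv_eq_iff_eq_mul] at this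
        exact this.symm
      have h5' : orderOf (a.1 : E) ∣ 5 := by
        rw [← hx]
        exact orderOf_dvd_of_mem_zpowers h
      have h2 : orderOf (a.1 : E) ∣ 2 := orderOf_dvd_of_pow_eq_one (by rw [pow_two]; exact a.1.2.2.1)
      exact orderOf_eq_one_iff.1 (Nat.eq_one_of_dvd_coprimes (by norm_num) h5' h2)
    exact Subtype.ext (Subtype.ext ((key a).trans (key b).symm))
  rw [h1] at hm
  -- a vector fixed by half of `A`
  cases nonempty_fintype A
  obtain ⟨v, hv, hev⟩ := exists_common_eigenvector ρ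
    (Finset.univ.image fun a : A => (a : E))
    (by rintro a ha; obtain ⟨b, -, rfl⟩ := Finset.mem_image.1 ha; exact b.2.2.1)
    (by
      rintro a ha b hb
      obtain ⟨a', -, rfl⟩ := Finset.mem_image.1 ha
      obtain ⟨b', -, rfl⟩ := Finset.mem_image.1 hb
      exact a'.2.2.2 b' b'.2.1)
  have hev' : ∀ a : A, ρ (a : E) v = v ∨ ρ (a : E) v = -v := fun a =>
    hev _ (Finset.mem_image_of_mem _ (Finset.mem_univ a))
  have hbound : Nat.card A ≤ 8 := by
    have hfix4 : Nat.card (fixer ρ v) = 4 := by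
      have := hcard v hv
      omega
    by_cases hall : ∀ a : A, (a : E) ∈ fixer ρ v
    · have h := Subgroup.card_le_of_le (show A ≤ fixer ρ v from fun a ha => hall ⟨a, ha⟩)
      omega
    · push Not at hall
      obtain ⟨a₀, ha₀⟩ := hall
      have ha₀v : ρ (a₀ : E) v = -v := (hev' a₀).resolve_left fun h => ha₀ h
      have hmem : ∀ a : A, (a : E) ∉ fixer ρ v → ((a₀ * a : A) : E) ∈ fixer ρ v := fun a ha => by
        show ρ ((a₀ : E) * a) v = v
        rw [map_mul, Module.End.mul_apply, (hev' a).resolve_left fun h => ha h, map_neg, ha₀v,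
          neg_neg]
      let F : A → fixer ρ v × Bool := fun a =>
        if h : (a : E) ∈ fixer ρ v then (⟨a, h⟩, true) else (⟨_, hmem a h⟩, false)
      have hF : Function.Injective F := by
        intro a b hab
        simp only [F] at hab
        split_ifs at hab
        all_goals simp only [Prod.mk.injEq, Subtype.ext_iff, Subgroup.coe_mul, mul_right_inj,
          Bool.true_eq_false, Bool.false_eq_true, and_false, and_true] at hab
        all_goals exact Subtype.ext hab
      have h := Nat.card_le_card_of_injective F hF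
      rw [Nat.card_prod, hfix4] at h
      simpa using h
  obtain ⟨k, hk⟩ := (hK2.to_le (show A ≤ K from fun a ha => ha.1)).exists_card_eq
  have hA2 : 1 < Nat.card A := by
    obtain ⟨a, ha, ha1⟩ := hA1
    haveI : Nontrivial A := ⟨⟨⟨a, ha⟩, 1, fun h => ha1 (congrArg Subtype.val h)⟩⟩
    exact Finite.one_lt_card
  rw [hk] at hbound hA2 hm
  have hk3 : k ≤ 3 := (Nat.pow_le_pow_iff_right (by norm_num : 1 < 2)).1 (by simpa using hbound)
  unfold Nat.ModEq at hm
  interval_cases k <;> omega

theorem not_sum_two_squares_728 : ∀ a b : ℕ, a ^ 2 + b ^ 2 ≠ 728 := by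
  have key : ∀ a < 27, ∀ b < 27, a ^ 2 + b ^ 2 ≠ 728 := by decide +kernel
  intro a b h
  have ha : a < 27 := by by_contra hc; nlinarith
  have hb : b < 27 := by by_contra hc; nlinarith
  exact key a ha b hb h

theorem not_sum_two_squares_15624 : ∀ a b : ℕ, a ^ 2 + b ^ 2 ≠ 15624 := by
  have key : ∀ a < 125, ∀ b < 125, a ^ 2 + b ^ 2 ≠ 15624 := by decide +kernel
  intro a b h
  have ha : a < 125 := by by_contra hc; nlinarith
  have hb : b < 125 := by by_contra hc; nlinarith
  exact key a ha b hb h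

/-- The linear group statement. -/
theorem natCard_le_three [Finite E] [Finite V] (hρ : Function.Injective ρ)
    (hpE : ¬ p ∣ Nat.card E) (htr : ∀ v w : V, v ≠ 0 → w ≠ 0 → ∃ a, ρ a v = w)
    (hreg : ∀ a b : E, Crit a → Crit b → a ≠ 1 → b ≠ 1 → IsConj a b)
    (hstab : ∀ v : V, v ≠ 0 → ∀ q : fixer ρ v, Crit q → q = 1)
    (hsq : ∀ v : V, v ≠ 0 → IsSquare (Nat.card (fixer ρ v)))
    (htwo : ∃ a b : ℕ, Nat.card V - 1 = a ^ 2 + b ^ 2) : Nat.card V ≤ 3 := by
  by_contra hV4
  push Not at hV4
  have hp : p.Prime := Fact.out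
  obtain ⟨n, hn⟩ : ∃ n, n = Module.finrank (ZMod p) V := ⟨_, rfl⟩
  have hV : Nat.card V = p ^ n := by
    rw [Module.natCard_eq_pow_finrank (K := ZMod p), Nat.card_zmod, hn]
  haveI : Nontrivial V := Finite.one_lt_card_iff_nontrivial.1 (by omega)
  obtain ⟨v, hv⟩ := exists_ne (0 : V)
  obtain ⟨a, b, hab⟩ := htwo
  rcases Nat.lt_or_ge n 2 with hn1 | hn2
  · interval_cases hn' : n
    · simp at hV; omega
    · haveI := isCyclic_of_finrank_eq_one ρ hρ hv hn.symm
      have := natCard_le_three_of_isCyclic ρ htr hreg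
      omega
  rcases eq_or_ne p 2 with hp2 | hp2
  · -- `2 ^ n - 1` is `3` modulo `4`
    subst hp2
    rw [hV] at hab
    obtain ⟨m, rfl⟩ : ∃ m, n = m + 2 := ⟨n - 2, by omega⟩
    have h1 : 1 ≤ 2 ^ m := Nat.one_le_two_pow
    have h2 : (a ^ 2 + b ^ 2) % 4 = 3 := by
      rw [← hab, pow_add]; omega
    rw [Nat.add_mod, Nat.pow_mod, Nat.pow_mod b] at h2
    have ha4 := Nat.mod_lt a (by norm_num : 4 > 0)
    have hb4 := Nat.mod_lt b (by norm_num : 4 > 0)
    interval_cases ha' : a % 4 <;> interval_cases hb' : b % 4 <;> norm_num at h2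
  rcases eq_or_lt_of_le hn2 with hn2 | hn3
  · exact false_of_finrank_eq_two ρ hρ hpE htr hreg hstab hp2 (by rw [hV, ← hn2]) (hn.symm.trans hn2.symm)
  obtain ⟨r, hr, hrd, hrmin⟩ := PPD.exists_primitive_prime (a := p) (n := n) hp.two_le (by omega)
    (fun h => hp2 h.1) fun h => by omega
  have hidx : p ^ n - 1 ∣ Nat.card E := by
    rw [← hV, ← index_fixer ρ htr hv]
    exact Subgroup.index_dvd_card _
  -- every primitive prime is `n + 1`
  have hprim : ∀ s : ℕ, s.Prime → s ∣ p ^ n - 1 → (∀ k, 0 < k → k < n → ¬ s ∣ p ^ k - 1) →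
      s = n + 1 ∧ ¬ s ^ 2 ∣ p ^ n - 1 := by
    intro s hs hsd hsmin
    haveI := Fact.mk hs
    obtain ⟨x, hx⟩ := exists_prime_orderOf_dvd_card' (G := E) s (hsd.trans hidx)
    have h1 := sub_one_le_finrank ρ hρ hpE hreg hn.symm hsd hsmin hx
    have h2 := PPD.lt_of_primitive hs hp.one_le (by omega) hsd hsmin
    exact ⟨by omega, fun h => not_sq_dvd_natCard ρ hρ hpE hreg hn.symm hsd hsmin (h.trans hidx)⟩
  by_cases hsm : (p, n) ∈ PPD.smallPairs
  · simp only [PPD.smallPairs, List.mem_cons, Prod.mk.injEq, List.not_mem_nil, or_false] at hsm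
    rcases hsm with ⟨rfl, -⟩ | ⟨rfl, -⟩ | ⟨rfl, -⟩ | ⟨rfl, -⟩ | ⟨rfl, -⟩ | ⟨hp', hn'⟩ | ⟨hp', hn'⟩ |
      ⟨hp', hn'⟩ | ⟨rfl, -⟩ | ⟨rfl, -⟩ | ⟨rfl, -⟩ | ⟨hp', -⟩ | ⟨hp', -⟩
    all_goals first
      | exact hp2 rfl
      | (rw [hp'] at hp; norm_num at hp; done)
      | skip
    · exact false_of_three_four ρ hρ hpE htr hreg hsq hp' (hn.symm.trans hn') (by rw [hV, hn'])
    · rw [hV, hp', hn'] at hab
      exact not_sum_two_squares_728 a b (by rw [← hab]; norm_num)
    · rw [hV, hp', hn'] at hab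
      exact not_sum_two_squares_15624 a b (by rw [← hab]; norm_num)
  · obtain ⟨m, hmd, hmcop, hm3⟩ :=
      PPD.exists_large_primitive_divisor hp.two_le (by omega) hsm
    have hall : ∀ {s : ℕ}, s.Prime → s ∣ m → s = n + 1 := fun {s} hs hsm' =>
      (hprim s hs (hsm'.trans hmd) fun k hk hkn =>
        hs.coprime_iff_not_dvd.1 (Nat.Coprime.coprime_dvd_left hsm' (hmcop k hk hkn))).1
    have hm := Nat.eq_prime_pow_of_unique_prime_dvd (n := m) (p := n + 1) (by omega) hall
    obtain ⟨hr', hr2⟩ := hprim r hr hrd hrmin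
    set l := m.primeFactorsList.length
    rcases Nat.lt_or_ge l 2 with hl | hl
    · have : (n + 1) ^ l ≤ (n + 1) ^ 1 := Nat.pow_le_pow_right (by omega) (by omega)
      rw [← hm, pow_one] at this
      omega
    · refine hr2 ((dvd_trans ?_ hmd))
      rw [hm, hr']
      exact pow_dvd_pow _ hl

end

end Cfsg.Agent.Lib.SmallAbelianDefect
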