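import Cfsg.Agent.Lib.FullyRamified.Frobenius
import Mathlib

/-!
# Regular elements of a quotient with respect to an invariant character

For a normal subgroup `C` of `T` and an invariant irreducible character `θ` of `C`, the characters
of `T` over `θ` are nonzero somewhere on each coset satisfying the criterion `Crit` below, and
classes of such cosets that are not conjugate give orthogonal vectors of values.
-/

set_option autoImplicit false

namespace Cfsg.Agent.Lib.SmallAbelianDefect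

open Cfsg
open Cfsg.Agent.Lib
open Cfsg.Agent.Lib.Clifford (conjFun resFun)
open scoped ComplexConjugate Classical

universe u

/-- Every element of prime power order, for a prime dividing the order of `q`, commuting with `q`
lies together with `q` in a cyclic subgroup. -/
def Crit {E : Type*} [Group E] (q : E) : Prop :=
  ∀ t : E, Commute t q → ∀ s j : ℕ, s.Prime → s ∣ orderOf q → orderOf t = s ^ j →
    ∃ y : E, q ∈ Subgroup.zpowers y ∧ t ∈ Subgroup.zpowers y

theorem crit_one {E : Type*} [Group E] : Crit (1 : E) := by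
  intro t _ s j hs hd _
  rw [orderOf_one, Nat.dvd_one] at hd
  exact absurd hd hs.ne_one

/-- A character is irreducible if its composite with a homomorphism is. -/
theorem isIrr_of_comp {A B : Type*} [Group A] [Group B] [Finite A] (f : A →* B) {χ : B → ℂ}
    (h : IsCharacter B χ) (hA : IsIrrCharacter A fun a => χ (f a)) : IsIrrCharacter B χ := by
  obtain ⟨n, ρ, rfl⟩ := h
  obtain ⟨m, σ, hσ, hc⟩ := hA
  haveI := hσ
  let τ : Representation ℂ A (Fin n → ℂ) := ρ.comp f
  obtain ⟨e⟩ := Clifford.equiv_of_char_eq σ τ hc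
  haveI : Representation.IsIrreducible (ρ.comp f) := Chars.isIrreducible_of_equiv e
  exact ⟨n, ρ, Clifford.isIrreducible_of_comp ρ f, rfl⟩

section

variable {T : Type u} [Group T] [Fintype T] (C : Subgroup T) [hC : C.Normal]
  (θ : IrrCharacter C)

/-- The irreducible characters lying over `θ`. -/
noncomputable def overSet : Finset (IrrCharacter T) :=
  Finset.univ.filter fun χ => classInner (resFun C (χ : T → ℂ)) (θ : C → ℂ) ≠ 0

theorem mem_overSet {χ : IrrCharacter T} :
    χ ∈ overSet C θ ↔ classInner (resFun C (χ : T → ℂ)) (θ : C → ℂ) ≠ 0 := by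
  simp [overSet]

/-- A coset on which some character over `θ` does not vanish. -/
def Reg (q : T ⧸ C) : Prop :=
  ∃ φ ∈ overSet C θ, ∃ g : T, (g : T ⧸ C) = q ∧ (φ : T → ℂ) g ≠ 0

variable (hinv : ∀ g : T, conjFun g (θ : C → ℂ) = θ)

include hinv

/-- Projection to the part over `θ`. -/
theorem sum_conj_mul (χ : IrrCharacter T) (g : T) :
    ∑ a : C, conj ((θ : C → ℂ) a) * (χ : T → ℂ) ((a : T) * g)
      = (if χ ∈ overSet C θ then (Nat.card C : ℂ) / (θ : C → ℂ) 1 else 0) * (χ : T → ℂ) g := by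
  obtain ⟨n, ρ, hρ, hρc⟩ := Chars.irr_exists_rep χ
  haveI := hρ
  set P : Module.End ℂ (Fin n → ℂ) := ∑ a : C, conj ((θ : C → ℂ) a) • ρ (a : T) with hP
  have hcomm : ∀ t : T, P * ρ t = ρ t * P := by
    intro t
    simp only [hP, Finset.sum_mul, Finset.mul_sum, smul_mul_assoc, mul_smul_comm, ← map_mul]
    refine Fintype.sum_equiv (MulAut.conjNormal t⁻¹).toEquiv _ _ fun a => ?_
    simp only [MulEquiv.toEquiv_eq_coe, EquivLike.coe_coe, MulAut.conjNormal_apply, inv_inv]
    congr 1
    · rw [← congrFun (hinv t⁻¹) a]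
      simp only [Clifford.conjFun, inv_inv]
      have he : (⟨t⁻¹ * (a : T) * t, by simpa using hC.conj_mem (a : T) a.2 t⁻¹⟩ : C)
          = MulAut.conjNormal t⁻¹ a :=
        Subtype.ext (by simp)
      rw [he]
    · congr 1
      simp [mul_assoc]
  obtain ⟨c, hc⟩ := Clifford.schur_scalar ρ P hcomm
  have htr : ∀ x : T, ∑ a : C, conj ((θ : C → ℂ) a) * (χ : T → ℂ) ((a : T) * x)
      = c * (χ : T → ℂ) x := by
    intro x
    have h := congrArg (fun Q : Module.End ℂ (Fin n → ℂ) => LinearMap.trace ℂ _ (Q * ρ x)) hc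
    simp only [hP, Finset.sum_mul, smul_mul_assoc, ← map_mul, map_sum, map_smul, one_mul,
      smul_eq_mul] at h
    rw [← hρc]
    exact h
  rw [htr g]
  congr 1
  have h1 := htr 1
  simp only [mul_one] at h1
  have h2 : ∑ a : C, conj ((θ : C → ℂ) a) * (χ : T → ℂ) (a : T)
      = (Nat.card C : ℂ) * classInner (resFun C (χ : T → ℂ)) (θ : C → ℂ) := by
    rw [classInner, mul_inv_cancel_left₀ Chars.natCard_ne_zero]
    exact Finset.sum_congr rfl fun a _ => mul_comm _ _
  rw [h2] at h1
  have hne := Chars.irr_apply_one_ne_zero χ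
  by_cases hov : χ ∈ overSet C θ
  · rw [if_pos hov]
    have hov' := (mem_overSet C θ).1 hov
    have h3 := congrFun (Clifford.resFun_eq_smul_of_invariant χ.2 θ.2 hov' hinv) 1
    simp only [Clifford.resFun_apply, Pi.smul_apply, smul_eq_mul, OneMemClass.coe_one] at h3
    rw [h3] at h1
    rw [eq_div_iff (Chars.irr_apply_one_ne_zero θ)]
    refine mul_left_cancel₀ hov' ?_
    linear_combination -h1
  · rw [if_neg hov]
    have hov' := not_not.1 (fun h => hov ((mem_overSet C θ).2 h))
    rw [hov', mul_zero] at h1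
    exact (mul_eq_zero.1 h1.symm).resolve_right hne

/-- Values at cosets that are not conjugate are orthogonal. -/
theorem sum_overSet_eq_zero {g h : T} (hgh : ¬ IsConj (g : T ⧸ C) (h : T ⧸ C)) :
    ∑ χ ∈ overSet C θ, (χ : T → ℂ) g * conj ((χ : T → ℂ) h) = 0 := by
  have hk : (Nat.card C : ℂ) / (θ : C → ℂ) 1 ≠ 0 :=
    div_ne_zero Chars.natCard_ne_zero (Chars.irr_apply_one_ne_zero θ)
  refine (mul_eq_zero.1 (?_ : (Nat.card C : ℂ) / (θ : C → ℂ) 1 * _ = 0)).resolve_left hk
  rw [Finset.mul_sum]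
  calc ∑ χ ∈ overSet C θ,
        (Nat.card C : ℂ) / (θ : C → ℂ) 1 * ((χ : T → ℂ) g * conj ((χ : T → ℂ) h))
      = ∑ χ : IrrCharacter T,
          (∑ a : C, conj ((θ : C → ℂ) a) * (χ : T → ℂ) ((a : T) * g)) * conj ((χ : T → ℂ) h) := by
        rw [overSet, Finset.sum_filter]
        refine Finset.sum_congr rfl fun χ _ => ?_
        rw [sum_conj_mul C θ hinv χ g]
        simp only [mem_overSet]
        split_ifs <;> ring
    _ = 0 := by
        simp only [Finset.sum_mul, mul_assoc]
        rw [Finset.sum_comm]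
        refine Finset.sum_eq_zero fun a _ => ?_
        rw [← Finset.mul_sum, Chars.column_orthogonality_of_not_isConj, mul_zero]
        intro hc
        refine hgh ?_
        have h' := (QuotientGroup.mk' C).map_isConj hc
        simpa [(QuotientGroup.eq_one_iff (a : T)).2 a.2] using h'

/-- Pairwise non-conjugate regular cosets are not more numerous than the characters over `θ`. -/
theorem card_le_card_overSet {ι : Type*} [Fintype ι] (q : ι → T ⧸ C) (hq : ∀ i, Reg C θ (q i))
    (hconj : ∀ i j, i ≠ j → ¬ IsConj (q i) (q j)) :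
    Fintype.card ι ≤ (overSet C θ).card := by
  choose φ hφ g hg hne using hq
  let v : ι → (overSet C θ → ℂ) := fun i χ => ((χ : IrrCharacter T) : T → ℂ) (g i)
  have hli : LinearIndependent ℂ v := by
    rw [Fintype.linearIndependent_iff]
    intro c hc i
    have h1 : ∑ j, c j * ∑ χ ∈ overSet C θ, (χ : T → ℂ) (g j) * conj ((χ : T → ℂ) (g i)) = 0 := by
      simp only [Finset.mul_sum]
      rw [Finset.sum_comm]
      refine Finset.sum_eq_zero fun χ hχ => ?_
      have h2 := congrFun hc ⟨χ, hχ⟩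
      simp only [Finset.sum_apply, Pi.smul_apply, smul_eq_mul, Pi.zero_apply, v] at h2
      simp only [← mul_assoc, ← Finset.sum_mul, h2, zero_mul]
    rw [Finset.sum_eq_single i (fun j _ hji => by
      rw [sum_overSet_eq_zero C θ hinv (by rw [hg, hg]; exact hconj j i hji), mul_zero])
      (by simp)] at h1
    refine (mul_eq_zero.1 h1).resolve_right fun h0 => hne i ?_
    simp only [Complex.mul_conj, ← Complex.ofReal_sum, Complex.ofReal_eq_zero] at h0
    exact Complex.normSq_eq_zero.1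
      ((Finset.sum_eq_zero_iff_of_nonneg fun χ _ => Complex.normSq_nonneg _).1 h0 _ (hφ i))
  have h := hli.fintype_card_le_finrank
  rwa [Module.finrank_fintype_fun_eq_card, Fintype.card_coe] at h

/-- The ramifications and the index. -/
theorem exists_ramification :
    ∃ e : IrrCharacter T → ℕ,
      (∀ χ : IrrCharacter T, classInner (resFun C (χ : T → ℂ)) (θ : C → ℂ) = e χ) ∧
      ∑ χ ∈ overSet C θ, e χ ^ 2 = C.index := by
  choose e he using fun χ : IrrCharacter T => Clifford.classInner_irr_nat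
    (Chars.isCharacter_restrict (H := C) (Chars.irr_isCharacter χ)) θ.2
  refine ⟨e, he, ?_⟩
  have h1 := Clifford.classInner_indFun_invariant θ.2 hinv
  rw [Chars.classInner_eq_sum_mul_conj (Chars.isClassFunction_indFun C _)
    (Chars.isClassFunction_indFun C _)] at h1
  have h2 : ∀ χ : IrrCharacter T, classInner (indFun C (θ : C → ℂ)) (χ : T → ℂ) = e χ := by
    intro χ
    rw [Chars.classInner_indFun_left C _ _ (Chars.irr_isClassFunction χ), ← Chars.conj_classInner]
    exact (congrArg conj (he χ)).trans (Complex.conj_natCast _)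
  simp only [h2, Complex.conj_natCast] at h1
  have h3 : ∑ χ : IrrCharacter T, e χ * e χ = C.index := by exact_mod_cast h1
  rw [← h3, overSet, Finset.sum_filter]
  refine Finset.sum_congr rfl fun χ _ => ?_
  split_ifs with h
  · exact sq _
  · have h0 : (e χ : ℂ) = 0 := (he χ).symm.trans (not_not.1 h)
    rw [Nat.cast_eq_zero.1 h0, mul_zero]

theorem overSet_nonempty : (overSet C θ).Nonempty := by
  obtain ⟨e, -, h⟩ := exists_ramification C θ hinv
  rw [Finset.nonempty_iff_ne_empty]
  intro h0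
  rw [h0, Finset.sum_empty] at h
  exact Subgroup.index_ne_zero_of_finite h.symm

theorem reg_one : Reg C θ 1 := by
  obtain ⟨φ, hφ⟩ := overSet_nonempty C θ hinv
  exact ⟨φ, hφ, 1, rfl, Chars.irr_apply_one_ne_zero φ⟩

/-- The preimage of a cyclic subgroup of the quotient. -/
abbrev pre (y : T ⧸ C) : Subgroup T := (Subgroup.zpowers y).comap (QuotientGroup.mk' C)

omit hinv in
theorem le_pre (y : T ⧸ C) : C ≤ pre C y := fun a ha => by
  simp [(QuotientGroup.eq_one_iff a).2 ha]

omit hinv in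
theorem isCyclic_pre_quotient (y : T ⧸ C) : IsCyclic (pre C y ⧸ C.subgroupOf (pre C y)) := by
  obtain ⟨x, hx⟩ := QuotientGroup.mk_surjective y
  refine ⟨⟨((⟨x, by simp [hx]⟩ : pre C y) : pre C y ⧸ C.subgroupOf (pre C y)), fun r => ?_⟩⟩
  obtain ⟨h, rfl⟩ := QuotientGroup.mk_surjective r
  obtain ⟨k, hk⟩ := Subgroup.mem_zpowers_iff.1 h.2
  refine Subgroup.mem_zpowers_iff.2 ⟨k, ?_⟩
  rw [← QuotientGroup.mk_zpow, QuotientGroup.eq, Subgroup.mem_subgroupOf]
  simp only [Subgroup.coe_mul, Subgroup.coe_inv, SubgroupClass.coe_zpow]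
  rw [← QuotientGroup.eq_one_iff, QuotientGroup.mk_mul, QuotientGroup.mk_inv,
    QuotientGroup.mk_zpow, hx, hk]
  exact inv_mul_cancel _

omit hinv in
/-- Two extensions of `θ` to the preimage of a cyclic subgroup differ on a coset by a root of
unity. -/
theorem twist (y : T ⧸ C) (ψ₁ ψ₂ : IrrCharacter (pre C y))
    (h₁ : ∀ a : C, (ψ₁ : pre C y → ℂ) ⟨a, le_pre C y a.2⟩ = (θ : C → ℂ) a)
    (h₂ : ∀ a : C, (ψ₂ : pre C y → ℂ) ⟨a, le_pre C y a.2⟩ = (θ : C → ℂ) a)
    {q : T ⧸ C} (hq : q ∈ Subgroup.zpowers y) :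
    ∃ z : ℂ, z ^ orderOf q = 1 ∧ ∀ h : pre C y, ((h : T) : T ⧸ C) = q →
      (ψ₂ : pre C y → ℂ) h = z * (ψ₁ : pre C y → ℂ) h := by
  haveI : IsCyclic ((pre C y) ⧸ (C.subgroupOf (pre C y))) := isCyclic_pre_quotient C y
  let θ' : IrrCharacter (C.subgroupOf (pre C y)) := ⟨_, Chars.isIrrCharacter_comp_surjective
    (Subgroup.subgroupOfEquivOfLe (le_pre C y)).toMonoidHom
    (Subgroup.subgroupOfEquivOfLe (le_pre C y)).surjective θ.2⟩
  have e1 : resFun (C.subgroupOf (pre C y)) (ψ₁ : (pre C y) → ℂ) = (θ' : (C.subgroupOf (pre C y)) → ℂ) :=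
    funext fun a => h₁ ⟨((a : (pre C y)) : T), a.2⟩
  have e2 : resFun (C.subgroupOf (pre C y)) (ψ₂ : (pre C y) → ℂ) = (θ' : (C.subgroupOf (pre C y)) → ℂ) :=
    funext fun a => h₂ ⟨((a : (pre C y)) : T), a.2⟩
  obtain ⟨-, -, hall⟩ := Clifford.gallagher ψ₁.2 (e1 ▸ θ'.2)
  obtain ⟨β, hβ⟩ := (hall _ ψ₂.2).1 (by rw [e1, e2, Chars.classInner_irr_self]; exact one_ne_zero)
  have hcomm : ∀ a b : (pre C y) ⧸ (C.subgroupOf (pre C y)), a * b = b * a := fun a b =>
    (IsCyclic.commGroup (α := (pre C y) ⧸ (C.subgroupOf (pre C y)))).mul_comm a b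
  obtain ⟨φ, hφ⟩ := Clifford.exists_hom_of_linear (Chars.irr_isCharacter β)
    (FullyRamified.Frobenius.apply_one_eq_one hcomm β).1
  obtain ⟨x, hx⟩ := QuotientGroup.mk_surjective q
  have hxH : x ∈ (pre C y) := by
    rw [Subgroup.mem_comap, QuotientGroup.mk'_apply, hx]; exact hq
  refine ⟨(φ ((⟨x, hxH⟩ : (pre C y)) : (pre C y) ⧸ (C.subgroupOf (pre C y))) : ℂ), ?_, fun h hh => ?_⟩
  · rw [← Units.val_pow_eq_pow_val, ← map_pow, ← QuotientGroup.mk_pow]
    rw [(QuotientGroup.eq_one_iff _).2, map_one, Units.val_one]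
    rw [Subgroup.mem_subgroupOf, Subgroup.coe_pow, ← QuotientGroup.eq_one_iff,
      QuotientGroup.mk_pow]
    simp only [hx]
    exact pow_orderOf_eq_one q
  · have he : ((h : (pre C y)) : (pre C y) ⧸ (C.subgroupOf (pre C y))) = ((⟨x, hxH⟩ : (pre C y)) : (pre C y) ⧸ (C.subgroupOf (pre C y))) := by
      rw [QuotientGroup.eq, Subgroup.mem_subgroupOf]
      simp only [Subgroup.coe_mul, Subgroup.coe_inv]
      rw [← QuotientGroup.eq, hh, hx]
    rw [hβ, Pi.mul_apply, mul_comm]
    congr 1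
    show (β : (pre C y) ⧸ (C.subgroupOf (pre C y)) → ℂ) ((h : (pre C y)) : (pre C y) ⧸ (C.subgroupOf (pre C y))) = _
    rw [he]
    exact congrFun hφ _

theorem exists_ext_pre (y : T ⧸ C) : ∃ ψ : IrrCharacter (pre C y),
    ∀ a : C, (ψ : pre C y → ℂ) ⟨a, le_pre C y a.2⟩ = (θ : C → ℂ) a := by
  haveI := isCyclic_pre_quotient C y
  let θ' : IrrCharacter (C.subgroupOf (pre C y)) := ⟨_, Chars.isIrrCharacter_comp_surjective
    (Subgroup.subgroupOfEquivOfLe (le_pre C y)).toMonoidHom
    (Subgroup.subgroupOfEquivOfLe (le_pre C y)).surjective θ.2⟩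
  obtain ⟨ψ, hψ⟩ := FullyRamified.Frobenius.exists_ext_of_cyclic _ θ' fun g => funext fun a =>
    congrFun (hinv (g : T)) ⟨((a : pre C y) : T), a.2⟩
  exact ⟨ψ, fun a => hψ ⟨⟨a, le_pre C y a.2⟩, a.2⟩⟩

/-- The criterion for a coset to be regular. -/
theorem reg_of_crit {q : T ⧸ C} (hq : Crit q) : Reg C θ q := by
  by_contra hreg
  set H := pre C q
  obtain ⟨ψ, hψ⟩ := exists_ext_pre C θ hinv q
  obtain ⟨x, hx⟩ := QuotientGroup.mk_surjective q
  have hmem : ∀ g : T, (g : T ⧸ C) = q → g ∈ H := fun g hg => by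
    rw [Subgroup.mem_comap, QuotientGroup.mk'_apply, hg]; exact Subgroup.mem_zpowers q
  let f : T → ℂ := fun g => if h : (g : T ⧸ C) = q then (ψ : H → ℂ) ⟨g, hmem g h⟩ else 0
  have hf : ∀ (g : T) (h : (g : T ⧸ C) = q), f g = (ψ : H → ℂ) ⟨g, hmem g h⟩ :=
    fun g h => dif_pos h
  have hf0 : ∀ g : T, (g : T ⧸ C) ≠ q → f g = 0 := fun g h => dif_neg h
  have hconj : ∀ t g : T, Commute (t : T ⧸ C) q →
      (((t * g * t⁻¹ : T) : T ⧸ C) = q ↔ (g : T ⧸ C) = q) := by
    intro t g ht
    rw [QuotientGroup.mk_mul, QuotientGroup.mk_mul, QuotientGroup.mk_inv, mul_inv_eq_iff_eq_mul,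
      ← ht.eq, mul_right_inj]
  obtain ⟨g₀, hg₀, hne₀⟩ : ∃ g : T, (g : T ⧸ C) = q ∧ f g ≠ 0 := by
    by_contra hno
    push Not at hno
    let C' := C.subgroupOf H
    let θ' : IrrCharacter C' := ⟨_, Chars.isIrrCharacter_comp_surjective
      (Subgroup.subgroupOfEquivOfLe (le_pre C q)).toMonoidHom
      (Subgroup.subgroupOfEquivOfLe (le_pre C q)).surjective θ.2⟩
    have hext : ∀ a : C', (ψ : H → ℂ) a = (θ' : C' → ℂ) a := fun a => hψ ⟨((a : H) : T), a.2⟩
    have h1 := Glauberman.coset_orth hext hext (fun _ => rfl) (⟨x, hmem x hx⟩ : H)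
    rw [if_pos rfl, Finset.sum_eq_zero, mul_zero] at h1
    · exact zero_ne_one h1
    intro a _
    have h2 : ((((a : H) * ⟨x, hmem x hx⟩ : H) : T) : T ⧸ C) = q := by
      rw [Subgroup.coe_mul, QuotientGroup.mk_mul,
        (QuotientGroup.eq_one_iff _).2 (show ((a : H) : T) ∈ C from a.2), one_mul]
      exact hx
    have h3 := hno _ h2
    rw [hf _ h2] at h3
    exact mul_eq_zero_of_left h3 _
  -- conjugation by the centralizer scales `f`
  have hz : ∀ t : T, Commute (t : T ⧸ C) q →
      ∃ z : ℂ, z ^ orderOf q = 1 ∧ ∀ g, f (t * g * t⁻¹) = z * f g := by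
    intro t ht
    have hnorm : ∀ h : T, h ∈ H → t * h * t⁻¹ ∈ H := by
      intro h hh
      obtain ⟨k, hk⟩ := Subgroup.mem_zpowers_iff.1 hh
      simp only [QuotientGroup.mk'_apply] at hk
      refine Subgroup.mem_zpowers_iff.2 ⟨k, ?_⟩
      rw [QuotientGroup.mk'_apply, QuotientGroup.mk_mul, QuotientGroup.mk_mul,
        QuotientGroup.mk_inv, ← hk, (ht.zpow_right k).eq, mul_inv_cancel_right]
    let c : H →* H :=
      { toFun := fun h => ⟨t * h * t⁻¹, hnorm h h.2⟩
        map_one' := Subtype.ext (by simp)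
        map_mul' := fun a b => Subtype.ext (by simp [mul_assoc]) }
    let ι : C →* H := Subgroup.inclusion (le_pre C q)
    have hres : ∀ a : C, (ψ : H → ℂ) (c (ι a)) = (θ : C → ℂ) a := fun a => by
      rw [← congrFun (hinv t) a]
      exact hψ ⟨t * a * t⁻¹, hC.conj_mem _ a.2 t⟩
    let ψ₂ : IrrCharacter H := ⟨fun h => (ψ : H → ℂ) (c h), isIrr_of_comp ι
      (Chars.isCharacter_comp c (Chars.irr_isCharacter ψ)) (by
        rw [show (fun a : C => (ψ : H → ℂ) (c (ι a))) = (θ : C → ℂ) from funext hres]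
        exact θ.2)⟩
    obtain ⟨z, hz1, hz2⟩ := twist C θ q ψ ψ₂ hψ hres (Subgroup.mem_zpowers q)
    refine ⟨z, hz1, fun g => ?_⟩
    by_cases hg : (g : T ⧸ C) = q
    · rw [hf g hg, hf _ ((hconj t g ht).2 hg)]
      exact hz2 ⟨g, hmem g hg⟩ hg
    · rw [hf0 g hg, hf0 _ fun h => hg ((hconj t g ht).1 h), mul_zero]
  -- elements in a common cyclic subgroup centralize `f`
  have hcompat : ∀ (t : T) (y : T ⧸ C), q ∈ Subgroup.zpowers y →
      (t : T ⧸ C) ∈ Subgroup.zpowers y → ∀ g, f (t * g * t⁻¹) = f g := by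
    intro t y hqy hty g
    have hHy : H ≤ pre C y := Subgroup.comap_mono (Subgroup.zpowers_le.2 hqy)
    have ht : Commute (t : T ⧸ C) q := by
      obtain ⟨i, hi⟩ := Subgroup.mem_zpowers_iff.1 hty
      obtain ⟨j, hj⟩ := Subgroup.mem_zpowers_iff.1 hqy
      rw [← hi, ← hj]
      exact Commute.zpow_zpow_self y i j
    by_cases hg : (g : T ⧸ C) = q
    swap
    · rw [hf0 g hg, hf0 _ fun h => hg ((hconj t g ht).1 h)]
    obtain ⟨φ, hφ⟩ := exists_ext_pre C θ hinv y
    let ι : C →* H := Subgroup.inclusion (le_pre C q)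
    let ψ₁ : IrrCharacter H := ⟨fun h => (φ : pre C y → ℂ) (Subgroup.inclusion hHy h),
      isIrr_of_comp ι (Chars.isCharacter_comp _ (Chars.irr_isCharacter φ)) (by
        rw [show (fun a : C => (φ : pre C y → ℂ) (Subgroup.inclusion hHy (ι a))) = (θ : C → ℂ)
          from funext hφ]
        exact θ.2)⟩
    obtain ⟨z, -, hz2⟩ := twist C θ q ψ₁ ψ hφ hψ (Subgroup.mem_zpowers q)
    rw [hf g hg, hf _ ((hconj t g ht).2 hg), hz2 _ ((hconj t g ht).2 hg), hz2 _ hg]
    congr 1
    exact Chars.irr_isClassFunction φ ⟨g, hHy (hmem g hg)⟩ ⟨t, hty⟩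
  have hfix : ∀ t : T, Commute (t : T ⧸ C) q → ∀ g, f (t * g * t⁻¹) = f g := by
    intro t ht
    obtain ⟨z, hz1, hz2⟩ := hz t ht
    have hpow : ∀ (k : ℕ) (g : T), f (t ^ k * g * (t ^ k)⁻¹) = z ^ k * f g := by
      intro k
      induction k with
      | zero => intro g; simp
      | succ k ih =>
        intro g
        rw [show t ^ (k + 1) * g * (t ^ (k + 1))⁻¹ = t ^ k * (t * g * t⁻¹) * (t ^ k)⁻¹ by group,
          ih, hz2, pow_succ, mul_assoc]
    set m := orderOf (t : T ⧸ C) with hm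
    have hcancel : ∀ k : ℕ, (∀ g, f (t ^ k * g * (t ^ k)⁻¹) = f g) → z ^ k = 1 := fun k hk => by
      have h := hpow k g₀
      rw [hk] at h
      exact mul_right_cancel₀ hne₀ (by rw [one_mul]; exact h.symm)
    have hzm : z ^ m = 1 := hcancel m (hcompat _ q (Subgroup.mem_zpowers q) (by
      rw [QuotientGroup.mk_pow, hm, pow_orderOf_eq_one]; exact Subgroup.one_mem _))
    have hz0 : z = 1 := by
      by_contra hz0
      set s := (orderOf z).minFac
      have hs : s.Prime := Nat.minFac_prime fun h => hz0 (orderOf_eq_one_iff.1 h)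
      have hso : s ∣ orderOf q :=
        (Nat.minFac_dvd _).trans (orderOf_dvd_of_pow_eq_one hz1)
      obtain ⟨j, m', hm', hjm⟩ :=
        Nat.exists_eq_pow_mul_and_not_dvd (orderOf_pos (t : T ⧸ C)).ne' s hs.ne_one
      have hord : orderOf ((t ^ m' : T) : T ⧸ C) = s ^ j := by
        have hm0 : m' ≠ 0 := fun h => hm' (h ▸ dvd_zero _)
        rw [QuotientGroup.mk_pow, orderOf_pow_of_dvd hm0 ⟨s ^ j, by rw [hjm, mul_comm]⟩, hjm,
          Nat.mul_div_cancel _ (Nat.pos_of_ne_zero hm0)]
      obtain ⟨y, hy1, hy2⟩ := hq ((t ^ m' : T) : T ⧸ C)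
        (by rw [QuotientGroup.mk_pow]; exact ht.pow_left m') s j hs hso hord
      exact hm' ((Nat.minFac_dvd _).trans
        (orderOf_dvd_of_pow_eq_one (hcancel m' (hcompat _ y hy1 hy2))))
    intro g
    rw [hz2, hz0, one_mul]
  -- the class function
  set F : T → ℂ := fun g => ∑ t : T, f (t * g * t⁻¹) with hF
  have hFc : IsClassFunction T F := by
    intro g k
    refine Fintype.sum_equiv (Equiv.mulRight k) _ _ fun t => ?_
    simp only [Equiv.coe_mulRight]
    congr 1
    group
  have hF0 : F g₀ ≠ 0 := by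
    have h : F g₀ = ∑ t : T, if Commute (t : T ⧸ C) q then f g₀ else 0 := by
      refine Finset.sum_congr rfl fun t _ => ?_
      split_ifs with ht
      · exact hfix t ht g₀
      · refine hf0 _ fun h => ht ?_
        rw [QuotientGroup.mk_mul, QuotientGroup.mk_mul, QuotientGroup.mk_inv, hg₀,
          mul_inv_eq_iff_eq_mul] at h
        exact h
    rw [h, ← Finset.sum_filter, Finset.sum_const, nsmul_eq_mul]
    refine mul_ne_zero (Nat.cast_ne_zero.2 (Finset.card_ne_zero.2 ⟨1, ?_⟩)) hne₀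
    simp
  have hproj : ∀ g : T, ∑ a : C, conj ((θ : C → ℂ) a) * f ((a : T) * g)
      = (Nat.card C : ℂ) / (θ : C → ℂ) 1 * f g := by
    intro g
    have hag : ∀ a : C, (((a : T) * g : T) : T ⧸ C) = g := fun a => by
      rw [QuotientGroup.mk_mul, (QuotientGroup.eq_one_iff (a : T)).2 a.2, one_mul]
    by_cases hg : (g : T ⧸ C) = q
    swap
    · rw [hf0 g hg, mul_zero]
      exact Finset.sum_eq_zero fun a _ => by rw [hf0 _ (by rw [hag]; exact hg), mul_zero]
    let C' := C.subgroupOf H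
    let e : C' ≃* C := Subgroup.subgroupOfEquivOfLe (le_pre C q)
    let θ' : IrrCharacter C' :=
      ⟨_, Chars.isIrrCharacter_comp_surjective e.toMonoidHom e.surjective θ.2⟩
    have hinv' : ∀ h : H, conjFun h (θ' : C' → ℂ) = θ' := fun h => funext fun a =>
      congrFun (hinv (h : T)) (e a)
    have hψC : resFun C' (ψ : H → ℂ) = (θ' : C' → ℂ) := funext fun a => hψ (e a)
    have hψo : ψ ∈ overSet C' θ' := by
      rw [mem_overSet, hψC, Chars.classInner_irr_self]; exact one_ne_zero
    have h := sum_conj_mul C' θ' hinv' ψ ⟨g, hmem g hg⟩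
    rw [if_pos hψo, Nat.card_congr e.toEquiv,
      show (θ' : C' → ℂ) 1 = (θ : C → ℂ) 1 from congrArg (θ : C → ℂ) (map_one e)] at h
    rw [hf g hg, ← h]
    refine (Fintype.sum_equiv e.toEquiv _ _ fun a => ?_).symm
    show _ = conj ((θ : C → ℂ) (e a)) * f (((e a : C) : T) * g)
    rw [hf _ ((hag (e a)).trans hg)]
    rfl
  refine hF0 ?_
  have hzero : F = 0 := by
    refine Chars.eq_zero_of_forall_classInner_eq_zero hFc fun χ => ?_
    have hsum : ∑ g : T, f g * conj ((χ : T → ℂ) g) = 0 := by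
      by_cases hχ : χ ∈ overSet C θ
      · refine Finset.sum_eq_zero fun g _ => ?_
        by_cases hg : (g : T ⧸ C) = q
        · have h0 : (χ : T → ℂ) g = 0 := by
            by_contra h0
            exact hreg ⟨χ, hχ, g, hg, h0⟩
          rw [h0, map_zero, mul_zero]
        · rw [hf0 g hg, zero_mul]
      · refine (mul_eq_zero.1 (?_ : (Nat.card C : ℂ) / (θ : C → ℂ) 1 * _ = 0)).resolve_left
          (div_ne_zero Chars.natCard_ne_zero (Chars.irr_apply_one_ne_zero θ))
        rw [Finset.mul_sum]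
        simp only [← mul_assoc, ← hproj, Finset.sum_mul]
        rw [Finset.sum_comm]
        have hswap : ∀ a : C, ∑ g : T, conj ((θ : C → ℂ) a) * f ((a : T) * g) *
            conj ((χ : T → ℂ) g)
            = ∑ g : T, f g * (conj ((θ : C → ℂ) a) * conj ((χ : T → ℂ) ((a : T)⁻¹ * g))) :=
          fun a => Fintype.sum_equiv (Equiv.mulLeft (a : T)) _ _ fun g => by
            simp only [Equiv.coe_mulLeft, inv_mul_cancel_left]; ring
        rw [Finset.sum_congr rfl fun a _ => hswap a, Finset.sum_comm]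
        refine Finset.sum_eq_zero fun g _ => ?_
        rw [← Finset.mul_sum]
        have h1 : ∑ a : C, conj ((θ : C → ℂ) a) * conj ((χ : T → ℂ) ((a : T)⁻¹ * g))
            = conj (∑ a : C, conj ((θ : C → ℂ) a) * (χ : T → ℂ) ((a : T) * g)) := by
          rw [map_sum]
          refine Fintype.sum_equiv (Equiv.inv C) _ _ fun a => ?_
          simp only [Equiv.inv_apply, Subgroup.coe_inv, map_mul, Chars.irr_inv,
            Complex.conj_conj]
        rw [h1, sum_conj_mul C θ hinv χ g, if_neg hχ, zero_mul, map_zero, mul_zero]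
    show (Nat.card T : ℂ)⁻¹ * ∑ g : T, (∑ t : T, f (t * g * t⁻¹)) * conj ((χ : T → ℂ) g) = 0
    simp only [Finset.sum_mul]
    rw [Finset.sum_comm, Finset.sum_eq_zero, mul_zero]
    intro t _
    rw [← hsum]
    refine Fintype.sum_equiv (MulAut.conj t).toEquiv _ _ fun g => ?_
    simp only [MulEquiv.toEquiv_eq_coe, EquivLike.coe_coe, MulAut.conj_apply]
    rw [Chars.irr_isClassFunction χ g t]
  rw [hzero]
  rfl

/-- A nontrivial coset satisfying the criterion gives two characters over `θ`. -/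
theorem two_le_card_overSet {q : T ⧸ C} (hq : Crit q) (hq1 : q ≠ 1) :
    2 ≤ (overSet C θ).card := by
  have h := card_le_card_overSet C θ hinv ![1, q]
    (fun i => by fin_cases i <;> [exact reg_one C θ hinv; exact reg_of_crit C θ hinv hq])
    (fun i j hij => by
      fin_cases i <;> fin_cases j
      · exact absurd rfl hij
      · exact fun h => hq1 (isConj_one_right.1 h)
      · exact fun h => hq1 (isConj_one_left.1 h)
      · exact absurd rfl hij)
  simpa using h

/-- With at most two characters over `θ`, nontrivial cosets satisfying the criterion are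
conjugate. -/
theorem isConj_of_card_overSet_le_two (h2 : (overSet C θ).card ≤ 2) {a b : T ⧸ C} (ha : Crit a)
    (hb : Crit b) (ha1 : a ≠ 1) (hb1 : b ≠ 1) : IsConj a b := by
  by_contra hab
  have h := card_le_card_overSet C θ hinv ![1, a, b]
    (fun i => by
      fin_cases i <;>
        [exact reg_one C θ hinv; exact reg_of_crit C θ hinv ha; exact reg_of_crit C θ hinv hb])
    (fun i j hij => by
      fin_cases i <;> fin_cases j
      · exact absurd rfl hij
      · exact fun h => ha1 (isConj_one_right.1 h)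
      · exact fun h => hb1 (isConj_one_right.1 h)
      · exact fun h => ha1 (isConj_one_left.1 h)
      · exact absurd rfl hij
      · exact hab
      · exact fun h => hb1 (isConj_one_left.1 h)
      · exact fun h => hab h.symm
      · exact absurd rfl hij)
  simp only [Fintype.card_fin] at h
  omega

end

end Cfsg.Agent.Lib.SmallAbelianDefect
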